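/-
helper17: additive functions on the roots of a Chevalley datum (odd, additive along the chains), the level of
the entries of the root elements with respect to such a function, and matrices that are unitriangular /
level-preserving with respect to a level function on the coordinates.
-/
import Cfsg.Agent.Helper17.ChevUni

set_option autoImplicit false
set_option linter.unusedSectionVars false

namespace Cfsg.Agent.Helper17

open Cfsg.Lie

section

variable {F : Type*} [Field F] {D : ChevalleyDatum}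

/-- `g` is odd and additive along the chains. -/
structure Additive (D : ChevalleyDatum) (g : ℕ → ℤ) : Prop where
  neg : ∀ r, r < D.nroots → g (D.neg r) = - g r
  chain : ∀ (r s d u : ℕ) (c : ℤ), r < D.nroots → s < D.nroots →
    (D.chainEntry r s)[d]? = some (u, c) → g u = g s + (d + 1) * g r

theorem WtFacts.additive {f : ℕ → ℤ} (hW : WtFacts D f) : Additive D f :=
  ⟨hW.neg, fun r s d u c hr hs h => (hW.chain r s d u c hr hs h).2⟩

theorem Additive.sum {ι : Type*} (S : Finset ι) (ω : ι → ℕ → ℤ) (h : ∀ k ∈ S, Additive D (ω k)) :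
    Additive D (fun r => ∑ k ∈ S, ω k r) := by
  constructor
  · intro r hr
    rw [← Finset.sum_neg_distrib]
    exact Finset.sum_congr rfl (fun k hk => (h k hk).neg r hr)
  · intro r s d u c hr hs hd
    rw [Finset.mul_sum, ← Finset.sum_add_distrib]
    exact Finset.sum_congr rfl (fun k hk => (h k hk).chain r s d u c hr hs hd)

theorem chainRoot_add {f g : ℕ → ℤ} (hW : WtFacts D f) (hA : Additive D g) {r s i k : ℕ}
    (hr : r < D.nroots) (hs : s < D.nroots) (hi : 1 ≤ i) (h : D.chainRoot r s i = some k) :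
    k < D.nroots ∧ g k = g s + i * g r := by
  have h0 := (chainRoot_wt hW hr hs hi h).1
  unfold ChevalleyDatum.chainRoot at h
  rw [Option.map_eq_some_iff] at h
  obtain ⟨⟨k', c⟩, h1, rfl⟩ := h
  have h3 := hA.chain r s (i - 1) k' c hr hs h1
  refine ⟨h0, ?_⟩
  rw [h3]
  have h4 : ((i - 1 : ℕ) : ℤ) + 1 = i := by omega
  rw [h4]

/-- Each term of the commutator formula for `(r, s)` is a root `i r + j s` with `i, j ≥ 1`, as seen by an
additive function. -/
theorem commTerms_add {f g : ℕ → ℤ} (hW : WtFacts D f) (hA : Additive D g) {r s : ℕ}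
    (hr : r < D.nroots) (hs : s < D.nroots) (c : ℕ × ℤ × ℕ × ℕ) (hc : c ∈ D.commTerms r s) :
    c.1 < D.nroots ∧ 1 ≤ c.2.2.1 ∧ 1 ≤ c.2.2.2 ∧ g c.1 = c.2.2.1 * g r + c.2.2.2 * g s := by
  unfold ChevalleyDatum.commTerms at hc
  simp only [List.mem_filterMap, List.mem_cons, List.not_mem_nil, or_false, Option.map_eq_some_iff] at hc
  obtain ⟨cand, hcand, k, hk, rfl⟩ := hc
  rcases hcand with rfl | rfl | rfl | rfl | rfl | rfl | rfl
  · obtain ⟨h1, h2⟩ := chainRoot_add hW hA hr hs (le_refl 1) hk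
    exact ⟨h1, le_refl _, le_refl _, by rw [h2]; push_cast; ring⟩
  · obtain ⟨h1, h2⟩ := chainRoot_add hW hA hr hs (by norm_num) hk
    exact ⟨h1, by norm_num, le_refl _, by rw [h2]; push_cast; ring⟩
  · obtain ⟨h1, h2⟩ := chainRoot_add hW hA hs hr (by norm_num) hk
    exact ⟨h1, le_refl _, by norm_num, by rw [h2]; push_cast; ring⟩
  · obtain ⟨h1, h2⟩ := chainRoot_add hW hA hr hs (by norm_num) hk
    exact ⟨h1, by norm_num, le_refl _, by rw [h2]; push_cast; ring⟩
  · obtain ⟨h1, h2⟩ := chainRoot_add hW hA hs hr (by norm_num) hk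
    exact ⟨h1, le_refl _, by norm_num, by rw [h2]; push_cast; ring⟩
  · simp only [Option.bind_eq_some_iff] at hk
    obtain ⟨k1, hk1, hk2⟩ := hk
    obtain ⟨h1, h2⟩ := chainRoot_add hW hA hr hs (by norm_num) hk1
    obtain ⟨h3, h4⟩ := chainRoot_add hW hA h1 hs (le_refl 1) hk2
    exact ⟨h3, by norm_num, by norm_num, by rw [h4, h2]; push_cast; ring⟩
  · simp only [Option.bind_eq_some_iff] at hk
    obtain ⟨k1, hk1, hk2⟩ := hk
    obtain ⟨h1, h2⟩ := chainRoot_add hW hA hs hr (by norm_num) hk1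
    obtain ⟨h3, h4⟩ := chainRoot_add hW hA h1 hr (le_refl 1) hk2
    exact ⟨h3, by norm_num, by norm_num, by rw [h4, h2]; push_cast; ring⟩

/-- A non-zero entry of `x_s(t) - 1` raises the level by a positive multiple of the level of `s`. -/
theorem x_sub_one_level {f g : ℕ → ℤ} (hW : WtFacts D f) (hA : Additive D g) {s : ℕ}
    (hs : s < D.nroots) (t : F) (row col : D.Idx) (hne : (D.x F s t - 1) row col ≠ 0) :
    ∃ k : ℕ, 1 ≤ k ∧ idxWt D g row - idxWt D g col = k * g s := by
  rcases x_sub_one_support D hs t row col hne with ⟨i, rfl, rfl⟩ | ⟨s', hs', hsr, rfl, hrow⟩ |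
    ⟨s', u, rfl, rfl, e, he, hes, um, hum, humu⟩
  · exact ⟨1, le_refl _, by simp [idxWt]⟩
  · have hn : g s'.val = - g s := by rw [hs']; exact hA.neg s hs
    rcases hrow with ⟨i, rfl⟩ | rfl
    · exact ⟨1, le_refl _, by simp only [idxWt]; rw [hn]; ring⟩
    · exact ⟨2, by norm_num, by simp only [idxWt]; rw [hn]; push_cast; ring⟩
  · have h3 := chainEntry_of_mem (hW.keys s hs) he
    obtain ⟨d, hd⟩ := List.getElem?_of_mem hum
    have h4 : (D.chainEntry s s'.val)[d]? = some (um.1, um.2) := by rw [← hes, h3]; exact hd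
    have h5 := hA.chain s s'.val d um.1 um.2 hs s'.isLt h4
    exact ⟨d + 1, by omega, by simp only [idxWt]; rw [← humu, h5]; push_cast; ring⟩

end

/-! ### Unitriangular and level-preserving matrices -/

section Lvl

variable {ι : Type*} [Fintype ι] [DecidableEq ι] {R : Type*} [CommRing R]

/-- `M` is unitriangular with respect to the level `l`: the non-zero entries of `M - 1` raise the level. -/
def UTL (l : ι → ℤ) (M : Matrix ι ι R) : Prop := ∀ a b, (M - 1) a b ≠ 0 → l b < l a

/-- `M` preserves the level `l`. -/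
def LPL (l : ι → ℤ) (M : Matrix ι ι R) : Prop := ∀ a b, M a b ≠ 0 → l a = l b

theorem UTL.one (l : ι → ℤ) : UTL l (1 : Matrix ι ι R) := by
  intro a b h
  simp at h

theorem UTL.mul {l : ι → ℤ} {M N : Matrix ι ι R} (hM : UTL l M) (hN : UTL l N) : UTL l (M * N) := by
  intro a b h
  have e : M * N - 1 = (M - 1) * (N - 1) + (M - 1) + (N - 1) := by noncomm_ring
  rw [e, Matrix.add_apply, Matrix.add_apply] at h
  by_cases h1 : (M - 1) a b = 0
  · by_cases h2 : (N - 1) a b = 0
    · rw [h1, h2, add_zero, add_zero, Matrix.mul_apply] at h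
      obtain ⟨k, -, hk⟩ := Finset.exists_ne_zero_of_sum_ne_zero h
      have h3 := hM a k (left_ne_zero_of_mul hk)
      have h4 := hN k b (right_ne_zero_of_mul hk)
      omega
    · exact hN a b h2
  · exact hM a b h1

theorem LPL.one (l : ι → ℤ) : LPL l (1 : Matrix ι ι R) := by
  intro a b h
  by_cases hab : a = b
  · rw [hab]
  · exact absurd (Matrix.one_apply_ne hab) h

theorem LPL.mul {l : ι → ℤ} {M N : Matrix ι ι R} (hM : LPL l M) (hN : LPL l N) : LPL l (M * N) := by
  intro a b h
  rw [Matrix.mul_apply] at h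
  obtain ⟨k, -, hk⟩ := Finset.exists_ne_zero_of_sum_ne_zero h
  rw [hM a k (left_ne_zero_of_mul hk), hN k b (right_ne_zero_of_mul hk)]

theorem eq_one_of_UTL_of_LPL {l : ι → ℤ} {M : Matrix ι ι R} (hU : UTL l M) (hL : LPL l M) : M = 1 := by
  rw [← sub_eq_zero]
  ext a b
  by_contra h
  have h1 := hU a b h
  by_cases hab : a = b
  · rw [hab] at h1; omega
  · have h2 : M a b ≠ 0 := by
      rw [Matrix.sub_apply, Matrix.one_apply_ne hab, sub_zero] at h
      exact h
    have := hL a b h2
    omega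

/-- The subgroup of the general linear group of the matrices `g` with `Q g` and `Q g⁻¹`, for a
multiplicative property `Q`. -/
def predSubgroup (Q : Matrix ι ι R → Prop) (h1 : Q 1) (hmul : ∀ A B, Q A → Q B → Q (A * B)) :
    Subgroup (GL ι R) where
  carrier := {g | Q (g : Matrix ι ι R) ∧ Q ((g⁻¹ : GL ι R) : Matrix ι ι R)}
  mul_mem' := by
    rintro a b ⟨ha, ha'⟩ ⟨hb, hb'⟩
    exact ⟨by rw [Units.val_mul]; exact hmul _ _ ha hb,
      by rw [mul_inv_rev, Units.val_mul]; exact hmul _ _ hb' ha'⟩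
  one_mem' := ⟨by rw [Units.val_one]; exact h1, by rw [inv_one, Units.val_one]; exact h1⟩
  inv_mem' := by
    rintro a ⟨ha, ha'⟩
    exact ⟨ha', by rw [inv_inv]; exact ha⟩

theorem mem_predSubgroup {Q : Matrix ι ι R → Prop} {h1 : Q 1} {hmul : ∀ A B, Q A → Q B → Q (A * B)}
    {g : GL ι R} : g ∈ predSubgroup Q h1 hmul ↔
      Q (g : Matrix ι ι R) ∧ Q ((g⁻¹ : GL ι R) : Matrix ι ι R) := Iff.rfl

end Lvl

end Cfsg.Agent.Helper17
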