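/-
helper17: the Levi decomposition of the standard parabolic subgroups of a Chevalley group (S1048) and
`N_G(U_J) = P_J` (S1049), from the relations `BRel`, the root coordinates `RootCoords`, a weight function and the
generators of `P_J` (helper18's S1047).

The `J`-level of a root is the sum of its coordinates outside `J`: `U_J` is generated by the root elements of
positive level, `L_J` by `H` and the root elements of level `0` in `Φ_J`.
-/
import Cfsg.Agent.Helper17.ChevCoord
import Cfsg.Agent.Helper17.ChevTorus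
import Cfsg.Agent.Helper36.ChevBNPair
import Cfsg.Agent.Helper6.BN

set_option autoImplicit false

namespace Cfsg.Agent.Helper17

open Cfsg Cfsg.Lie Cfsg.Agent.Helper36

theorem forall_mem_toList_iff (row : Array ℤ) (P : ℤ → Prop) :
    (∀ c ∈ row.toList, P c) ↔ ∀ k, k < row.size → P (row.getD k 0) := by
  constructor
  · intro h k hk
    apply h
    have e : row.getD k 0 = row[k] := by simp [Array.getD, hk]
    rw [e]
    exact Array.getElem_mem_toList hk
  · intro h c hc
    obtain ⟨k, hk, rfl⟩ := List.mem_iff_getElem.mp hc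
    have hk' : k < row.size := by simpa using hk
    have h1 := h k hk'
    have e : row.getD k 0 = row.toList[k] := by simp [Array.getD, hk']
    rwa [e] at h1

section

variable {D : ChevalleyDatum} {F : Type*} [Field F] {η : ℕ → ℕ → ℤ} {ω : ℕ → ℕ → ℤ} {f : ℕ → ℤ}

theorem RootCoords.isPosRoot_iff (hC : RootCoords D ω) {r : ℕ} (hr : r < D.nroots) :
    D.IsPosRoot r ↔ ∀ k, k < D.rank → 0 ≤ ω k r := by
  unfold ChevalleyDatum.IsPosRoot
  rw [forall_mem_toList_iff, hC.size r hr]
  constructor
  · rintro ⟨-, h⟩ k hk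
    by_contra hlt
    have h1 := (hC.neg k hk r hr).mpr (not_le.mp hlt)
    have h2 := h k hk
    omega
  · intro h
    refine ⟨hr, fun k hk => ?_⟩
    by_contra hlt
    have h1 := (hC.neg k hk r hr).mp (not_le.mp hlt)
    have h2 := h k hk
    omega

theorem RootCoords.isNegRoot_iff (hC : RootCoords D ω) {r : ℕ} (hr : r < D.nroots) :
    D.IsNegRoot r ↔ ∀ k, k < D.rank → ω k r ≤ 0 := by
  unfold ChevalleyDatum.IsNegRoot
  rw [forall_mem_toList_iff, hC.size r hr]
  constructor
  · rintro ⟨-, h⟩ k hk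
    by_contra hlt
    have h1 := (hC.pos k hk r hr).mpr (not_le.mp hlt)
    have h2 := h k hk
    omega
  · intro h
    refine ⟨hr, fun k hk => ?_⟩
    by_contra hlt
    have h1 := (hC.pos k hk r hr).mp (not_le.mp hlt)
    have h2 := h k hk
    omega

theorem RootCoords.cor_eq_zero_iff (hC : RootCoords D ω) {k r : ℕ} (hk : k < D.rank) (hr : r < D.nroots) :
    (D.coroot.getD r #[]).getD k 0 = 0 ↔ ω k r = 0 := by
  have h1 := hC.pos k hk r hr
  have h2 := hC.neg k hk r hr
  constructor
  · intro h
    by_contra hne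
    rcases lt_or_gt_of_ne hne with h3 | h3
    · have := h2.mpr h3; omega
    · have := h1.mpr h3; omega
  · intro h
    by_contra hne
    rcases lt_or_gt_of_ne hne with h3 | h3
    · have := h2.mp h3; omega
    · have := h1.mp h3; omega

open Classical in
/-- The `J`-level of a root: the sum of its coordinates outside `J`. -/
noncomputable def lev (D : ChevalleyDatum) (ω : ℕ → ℕ → ℤ) (J : Set ℕ) (r : ℕ) : ℤ :=
  ∑ k ∈ (Finset.range D.rank).filter (fun k => k ∉ J), ω k r

theorem lev_additive (hC : RootCoords D ω) (J : Set ℕ) : Additive D (lev D ω J) := by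
  classical
  exact Additive.sum _ _ (fun k hk => hC.add k (Finset.mem_range.mp (Finset.mem_filter.mp hk).1))

theorem lev_nonneg (hC : RootCoords D ω) (J : Set ℕ) {r : ℕ} (hr : D.IsPosRoot r) :
    0 ≤ lev D ω J r := by
  classical
  exact Finset.sum_nonneg (fun k hk => ((hC.isPosRoot_iff hr.1).mp hr) k
    (Finset.mem_range.mp (Finset.mem_filter.mp hk).1))

theorem lev_eq_zero (hC : RootCoords D ω) (J : Set ℕ) {r : ℕ} (hr : D.InRootSub J r) :
    lev D ω J r = 0 := by
  classical
  apply Finset.sum_eq_zero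
  intro k hk
  obtain ⟨hk1, hk2⟩ := Finset.mem_filter.mp hk
  exact (hC.cor_eq_zero_iff (Finset.mem_range.mp hk1) hr.1).mp (hr.2 k (Finset.mem_range.mp hk1) hk2)

theorem lev_pos (hC : RootCoords D ω) (J : Set ℕ) {r : ℕ} (hr : D.IsPosRoot r)
    (hJ : ¬ D.InRootSub J r) : 0 < lev D ω J r := by
  classical
  unfold ChevalleyDatum.InRootSub at hJ
  push Not at hJ
  obtain ⟨k, hk, hkJ, hne⟩ := hJ hr.1
  have h1 : ω k r ≠ 0 := fun h => hne ((hC.cor_eq_zero_iff hk hr.1).mpr h)
  have h2 := (hC.isPosRoot_iff hr.1).mp hr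
  have h3 : 0 < ω k r := lt_of_le_of_ne (h2 k hk) (Ne.symm h1)
  exact Finset.sum_pos' (fun i hi => h2 i (Finset.mem_range.mp (Finset.mem_filter.mp hi).1))
    ⟨k, Finset.mem_filter.mpr ⟨Finset.mem_range.mpr hk, hkJ⟩, h3⟩

theorem pos_of_lev_pos (hC : RootCoords D ω) (W : WFacts D) (J : Set ℕ) {r : ℕ} (hr : r < D.nroots)
    (h : 0 < lev D ω J r) : D.IsPosRoot r ∧ ¬ D.InRootSub J r := by
  classical
  constructor
  · rcases W.pos_xor r hr with h1 | h1
    · exact h1.1
    · exfalso
      have h2 := (hC.isNegRoot_iff hr).mp h1.2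
      have h3 : lev D ω J r ≤ 0 :=
        Finset.sum_nonpos (fun k hk => h2 k (Finset.mem_range.mp (Finset.mem_filter.mp hk).1))
      omega
  · intro hJ
    have := lev_eq_zero hC J hJ
    omega

/-- Conjugating a generator of `U_J` by a root element of non-negative level stays in `U_J`. -/
theorem conj_unipotentRadical_gen (R : BRel D F η) (hW : WtFacts D f) (hC : RootCoords D ω) (J : Set ℕ)
    {r : ℕ} (hr : r < D.nroots) (hlr : 0 ≤ lev D ω J r) (t : F) {s : ℕ} (hs : D.IsPosRoot s)
    (hsJ : ¬ D.InRootSub J s) (a : F) :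
    xGL R.xadd r t * xGL R.xadd s a * (xGL R.xadd r t)⁻¹ ∈ D.unipotentRadical F J := by
  have hls := lev_pos hC J hs hsJ
  by_cases hsr : s = r
  · subst hsr
    have e : xGL R.xadd s t * xGL R.xadd s a * (xGL R.xadd s t)⁻¹ = xGL R.xadd s a := by
      rw [xGL_mul, xGL_inv, xGL_mul]; congr 1; ring
    rw [e]
    exact Subgroup.subset_closure ⟨s, a, hs, hsJ, rfl⟩
  · have hsn : s ≠ D.neg r := by
      intro h
      have h1 := (lev_additive hC J).neg r hr
      rw [← h] at h1
      omega
    rw [xGL_conj R.xadd (R.cf r hr s hs.1 hsr hsn)]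
    refine Subgroup.mul_mem _ (Subgroup.subset_closure ⟨s, a, hs, hsJ, rfl⟩) ?_
    apply wordGL_mem
    intro p hp
    obtain ⟨c, hc, hpc⟩ := mem_commWord hp
    obtain ⟨h1, h2, h3, h4⟩ := commTerms_add hW (lev_additive hC J) hr hs.1 c hc
    have h5 : 0 < lev D ω J c.1 := by
      rw [h4]
      have h6 : (0 : ℤ) ≤ (c.2.2.1 : ℤ) * lev D ω J r := mul_nonneg (Int.natCast_nonneg _) hlr
      have h7 : lev D ω J s ≤ (c.2.2.2 : ℤ) * lev D ω J s :=
        le_mul_of_one_le_left (le_of_lt hls) (by exact_mod_cast h3)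
      linarith
    obtain ⟨h6, h7⟩ := pos_of_lev_pos hC R.wf J h1 h5
    rw [hpc]
    exact Subgroup.subset_closure ⟨c.1, p.2, h6, h7, rfl⟩

/-- The generating set of `P_J` of statement S1047. -/
def parabolicGens (D : ChevalleyDatum) (F : Type*) [Field F] (J : Set ℕ) : Set (GL D.Idx F) :=
  {g : GL D.Idx F | ∃ (r : ℕ) (t : F), (D.IsPosRoot r ∨ D.InRootSub J r) ∧
    (g : Matrix D.Idx D.Idx F) = D.x F r t}

/-- `P_J` normalises `U_J`. -/
theorem parabolic_le_normalizer (R : BRel D F η) (hW : WtFacts D f) (hC : RootCoords D ω) (J : Set ℕ)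
    (hP : D.parabolicSubgroup F J = D.diagonalSubgroup F ⊔ Subgroup.closure (parabolicGens D F J)) :
    D.parabolicSubgroup F J ≤ Subgroup.normalizer (D.unipotentRadical F J : Set (GL D.Idx F)) := by
  rw [hP]
  unfold ChevalleyDatum.unipotentRadical
  apply sup_le
  · intro h hh
    apply mem_normalizer_closure
    · rintro u ⟨s, a, hs, hsJ, hu⟩
      obtain ⟨c, hc⟩ := R.hx h hh s hs.1
      rw [eq_xGL R.xadd hu, hc]
      exact Subgroup.subset_closure ⟨s, c * a, hs, hsJ, rfl⟩
    · rintro u ⟨s, a, hs, hsJ, hu⟩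
      obtain ⟨c, hc⟩ := R.hx h⁻¹ (Subgroup.inv_mem _ hh) s hs.1
      have h1 := hc a
      rw [inv_inv] at h1
      rw [eq_xGL R.xadd hu, h1]
      exact Subgroup.subset_closure ⟨s, c * a, hs, hsJ, rfl⟩
  · rw [Subgroup.closure_le]
    rintro g ⟨r, t, hr, hg⟩
    have hr' : r < D.nroots := by
      rcases hr with h | h
      · exact h.1
      · exact h.1
    have hlr : 0 ≤ lev D ω J r := by
      rcases hr with h | h
      · exact lev_nonneg hC J h
      · exact le_of_eq (lev_eq_zero hC J h).symm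
    rw [SetLike.mem_coe, eq_xGL R.xadd hg]
    apply mem_normalizer_closure
    · rintro u ⟨s, a, hs, hsJ, hu⟩
      rw [eq_xGL R.xadd hu]
      exact conj_unipotentRadical_gen R hW hC J hr' hlr t hs hsJ a
    · rintro u ⟨s, a, hs, hsJ, hu⟩
      rw [eq_xGL R.xadd hu]
      have e : (xGL R.xadd r t)⁻¹ * xGL R.xadd s a * xGL R.xadd r t =
          xGL R.xadd r (-t) * xGL R.xadd s a * (xGL R.xadd r (-t))⁻¹ := by
        rw [xGL_inv, xGL_inv, neg_neg]
      rw [e]
      exact conj_unipotentRadical_gen R hW hC J hr' hlr (-t) hs hsJ a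

/-- `U_J L_J = P_J`. -/
theorem unipotentRadical_sup_levi (J : Set ℕ)
    (hP : D.parabolicSubgroup F J = D.diagonalSubgroup F ⊔ Subgroup.closure (parabolicGens D F J)) :
    D.unipotentRadical F J ⊔ D.leviSubgroup F J = D.parabolicSubgroup F J := by
  rw [hP]
  unfold ChevalleyDatum.unipotentRadical ChevalleyDatum.leviSubgroup
  apply le_antisymm
  · apply sup_le
    · refine le_trans (Subgroup.closure_mono ?_) le_sup_right
      rintro g ⟨r, t, hr, -, hg⟩
      exact ⟨r, t, Or.inl hr, hg⟩
    · apply sup_le le_sup_left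
      refine le_trans (Subgroup.closure_mono ?_) le_sup_right
      rintro g ⟨r, t, hr, hg⟩
      exact ⟨r, t, Or.inr hr, hg⟩
  · apply sup_le
    · exact le_trans le_sup_left le_sup_right
    · rw [Subgroup.closure_le]
      rintro g ⟨r, t, hr, hg⟩
      by_cases hJ : D.InRootSub J r
      · exact (le_sup_right : D.leviSubgroup F J ≤ _) ((le_sup_right : _ ≤ D.leviSubgroup F J)
          (Subgroup.subset_closure ⟨r, t, hJ, hg⟩))
      · rcases hr with h | h
        · exact (le_sup_left : D.unipotentRadical F J ≤ _)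
            (Subgroup.subset_closure ⟨r, t, h, hJ, hg⟩)
        · exact absurd h hJ

/-- The matrices of `U_J` are unitriangular for the `J`-level. -/
theorem unipotentRadical_le_UTL (R : BRel D F η) (hW : WtFacts D f) (hC : RootCoords D ω) (J : Set ℕ) :
    D.unipotentRadical F J ≤ predSubgroup (UTL (idxWt D (lev D ω J)) (R := F)) (UTL.one _)
      (fun _ _ hA hB => hA.mul hB) := by
  have key : ∀ (s : ℕ), D.IsPosRoot s → ¬ D.InRootSub J s → ∀ a : F,
      UTL (idxWt D (lev D ω J)) (D.x F s a) := by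
    intro s hs hsJ a row col hne
    obtain ⟨k, hk, he⟩ := x_sub_one_level hW (lev_additive hC J) hs.1 a row col hne
    have hls := lev_pos hC J hs hsJ
    have h1 : lev D ω J s ≤ (k : ℤ) * lev D ω J s :=
      le_mul_of_one_le_left (le_of_lt hls) (by exact_mod_cast hk)
    linarith
  unfold ChevalleyDatum.unipotentRadical
  rw [Subgroup.closure_le]
  rintro g ⟨s, a, hs, hsJ, hg⟩
  rw [SetLike.mem_coe, mem_predSubgroup, eq_xGL R.xadd hg, xGL_inv, xGL_val, xGL_val]
  exact ⟨key s hs hsJ a, key s hs hsJ (-a)⟩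

/-- The matrices of `L_J` preserve the `J`-level. -/
theorem levi_le_LPL (R : BRel D F η) (hW : WtFacts D f) (hC : RootCoords D ω) (hH : HDiag D F)
    (J : Set ℕ) :
    D.leviSubgroup F J ≤ predSubgroup (LPL (idxWt D (lev D ω J)) (R := F)) (LPL.one _)
      (fun _ _ hA hB => hA.mul hB) := by
  have key : ∀ (r : ℕ), D.InRootSub J r → ∀ t : F, LPL (idxWt D (lev D ω J)) (D.x F r t) := by
    intro r hr t row col hne
    by_cases hrc : row = col
    · rw [hrc]
    · have hne' : (D.x F r t - 1) row col ≠ 0 := by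
        rw [Matrix.sub_apply, Matrix.one_apply_ne hrc, sub_zero]; exact hne
      obtain ⟨k, -, he⟩ := x_sub_one_level hW (lev_additive hC J) hr.1 t row col hne'
      rw [lev_eq_zero hC J hr, mul_zero] at he
      omega
  have hdiag : ∀ g ∈ D.diagonalSubgroup F, LPL (idxWt D (lev D ω J)) (g : Matrix D.Idx D.Idx F) := by
    intro g hg row col hne
    obtain ⟨z, hz⟩ := mem_torus.mp (diagonalSubgroup_le_torus hH hg)
    rw [hz] at hne
    unfold ChevalleyDatum.charDiag at hne
    by_cases hrc : row = col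
    · rw [hrc]
    · exact absurd (Matrix.diagonal_apply_ne _ hrc) hne
  unfold ChevalleyDatum.leviSubgroup
  apply sup_le
  · intro g hg
    exact mem_predSubgroup.mpr ⟨hdiag g hg, hdiag g⁻¹ (Subgroup.inv_mem _ hg)⟩
  · rw [Subgroup.closure_le]
    rintro g ⟨r, t, hr, hg⟩
    rw [SetLike.mem_coe, mem_predSubgroup, eq_xGL R.xadd hg, xGL_inv, xGL_val, xGL_val]
    exact ⟨key r hr t, key r hr (-t)⟩

/-- `U_J ∩ L_J = 1`. -/
theorem unipotentRadical_inf_levi (R : BRel D F η) (hW : WtFacts D f) (hC : RootCoords D ω)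
    (hH : HDiag D F) (J : Set ℕ) : D.unipotentRadical F J ⊓ D.leviSubgroup F J = ⊥ := by
  rw [eq_bot_iff]
  intro g hg
  obtain ⟨h1, h2⟩ := Subgroup.mem_inf.mp hg
  have h3 := (mem_predSubgroup.mp (unipotentRadical_le_UTL R hW hC J h1)).1
  have h4 := (mem_predSubgroup.mp (levi_le_LPL R hW hC hH J h2)).1
  rw [Subgroup.mem_bot]
  exact Units.ext (eq_one_of_UTL_of_LPL h3 h4)

/-- The Levi decomposition (statement S1048). -/
theorem levi_decomposition (R : BRel D F η) (hW : WtFacts D f) (hC : RootCoords D ω) (hH : HDiag D F)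
    (J : Set ℕ)
    (hP : D.parabolicSubgroup F J = D.diagonalSubgroup F ⊔ Subgroup.closure (parabolicGens D F J)) :
    D.parabolicSubgroup F J ≤ Subgroup.normalizer (D.unipotentRadical F J : Set (GL D.Idx F)) ∧
      D.unipotentRadical F J ⊔ D.leviSubgroup F J = D.parabolicSubgroup F J ∧
      D.unipotentRadical F J ⊓ D.leviSubgroup F J = ⊥ :=
  ⟨parabolic_le_normalizer R hW hC J hP, unipotentRadical_sup_levi J hP,
    unipotentRadical_inf_levi R hW hC hH J⟩

/-- `N_G(U_J) = P_J` (statement S1049). -/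
theorem normalizer_unipotentRadical (R : BRel D F η) (hW : WtFacts D f) (hC : RootCoords D ω)
    (hs : simpleOK D = true) (J : Set ℕ)
    (hP : D.parabolicSubgroup F J = D.diagonalSubgroup F ⊔ Subgroup.closure (parabolicGens D F J)) :
    Subgroup.normalizer (D.unipotentRadical F J : Set (GL D.Idx F)) ⊓ D.group F =
      D.parabolicSubgroup F J := by
  have hBG := borelSubgroup_le_group (D := D) (F := F) R.xadd
  have hNG := monomialSubgroup_le_group (D := D) (F := F) R.xadd
  have hnorm := parabolic_le_normalizer R hW hC J hP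
  have hBP : D.borelSubgroup F ≤ D.parabolicSubgroup F J := le_sup_left
  have hPG : D.parabolicSubgroup F J ≤ D.group F := by
    unfold ChevalleyDatum.parabolicSubgroup
    apply sup_le hBG
    rw [Subgroup.closure_le]
    rintro g ⟨j, -, hj, hg⟩
    have e : g = R.n j := Units.ext (by rw [hg, R.n_val])
    rw [SetLike.mem_coe, e]
    exact hNG (R.n_mem_monomial hj)
  apply le_antisymm
  · intro g hg
    obtain ⟨hgN, hgG⟩ := Subgroup.mem_inf.mp hg
    obtain ⟨P, hPB, -, hPS⟩ := R.exists_bnPair
    let M : Subgroup ↥(D.group F) :=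
      (Subgroup.normalizer (D.unipotentRadical F J : Set (GL D.Idx F)) ⊓ D.group F).subgroupOf (D.group F)
    have hM : P.B ≤ M := by
      intro b hb
      rw [hPB, Subgroup.mem_subgroupOf] at hb
      exact Subgroup.mem_subgroupOf.mpr (Subgroup.mem_inf.mpr ⟨hnorm (hBP hb), b.2⟩)
    have hK : P.parabolic (P.S ∩ (M : Set ↥(D.group F))) ≤
        (D.parabolicSubgroup F J).subgroupOf (D.group F) := by
      apply Cfsg.Agent.Helper6.parabolic_le P
      · intro b hb
        rw [hPB, Subgroup.mem_subgroupOf] at hb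
        exact Subgroup.mem_subgroupOf.mpr (hBP hb)
      · rintro n ⟨hnS, hnM⟩
        rw [hPS] at hnS
        obtain ⟨i, hi, hn⟩ := hnS
        have hnM' : (n : GL D.Idx F) ∈
            Subgroup.normalizer (D.unipotentRadical F J : Set (GL D.Idx F)) :=
          (Subgroup.mem_inf.mp (Subgroup.mem_subgroupOf.mp hnM)).1
        have e : (n : GL D.Idx F) = R.n i := Units.ext (by rw [hn, R.n_val])
        rw [SetLike.mem_coe, Subgroup.mem_subgroupOf]
        by_cases hiJ : i ∈ J
        · exact (le_sup_right : _ ≤ D.parabolicSubgroup F J) (Subgroup.subset_closure ⟨i, hiJ, hi, hn⟩)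
        · exfalso
          have hp := R.wf.simple_lt i hi
          have hpos := R.wf.simple_pos i hi
          have hnJ : ¬ D.InRootSub J (D.simple i) := by
            intro h
            have h1 := h.2 i hi hiJ
            rw [(simpleOK_spec hs hi).2 i hi, if_pos rfl] at h1
            exact one_ne_zero h1
          have hx : xGL R.xadd (D.simple i) 1 ∈ D.unipotentRadical F J :=
            Subgroup.subset_closure ⟨D.simple i, 1, hpos, hnJ, rfl⟩
          have h2 := (Subgroup.mem_normalizer_iff.mp hnM' _).mp hx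
          rw [e, R.conj_x hi hp, R.wf.refl_simple i hi, mul_one] at h2
          have hUU : D.unipotentRadical F J ≤ D.posUnipotent F := by
            unfold ChevalleyDatum.unipotentRadical ChevalleyDatum.posUnipotent
            apply Subgroup.closure_mono
            rintro g ⟨r, t, hr, -, hg⟩
            exact ⟨r, t, hr, hg⟩
          exact R.xneg_not_mem_B (R.neg_simple_neg hi) (R.eta_ne_zero hi hp)
            (BRel.U_le_B D F (hUU h2))
    have h3 : (⟨g, hgG⟩ : ↥(D.group F)) ∈ M := Subgroup.mem_subgroupOf.mpr hg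
    rw [Cfsg.Agent.Helper6.eq_parabolic_of_le P M hM] at h3
    exact Subgroup.mem_subgroupOf.mp (hK h3)
  · exact le_inf hnorm hPG

end

end Cfsg.Agent.Helper17
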