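/-
helper17: the order formula of a Chevalley group from the Bruhat count `card_group_eq_sum`, the order of `B`
and the Poincaré identity `∑_{L ∈ NF} q^{|L|} = ∏_i (1 + q + ⋯ + q^{d_i - 1})`:
`d · |G| = q^N · ∏_i (q^{d_i} - 1)`.
-/
import Cfsg.Agent.Helper17.ChevCell

set_option autoImplicit false

namespace Cfsg.Agent.Helper17

open Cfsg Cfsg.Lie Cfsg.Agent.Helper36

/-- `(q - 1) (1 + q + ⋯ + q^{e-1}) = q^e - 1` in `ℕ` (also for `q = 0`). -/
theorem pred_mul_geom (q e : ℕ) : (q - 1) * ∑ k ∈ Finset.range e, q ^ k = q ^ e - 1 := by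
  rcases Nat.eq_zero_or_pos q with rfl | hq
  · rcases Nat.eq_zero_or_pos e with rfl | he
    · simp
    · simp [Nat.ne_of_gt he]
  · induction e with
    | zero => simp
    | succ e ih =>
      rw [Finset.sum_range_succ, mul_add, ih, Nat.sub_mul, one_mul, pow_succ]
      have h1 : 1 ≤ q ^ e := Nat.one_le_pow _ _ hq
      have h2 : q ^ e ≤ q * q ^ e := Nat.le_mul_of_pos_left _ hq
      rw [mul_comm (q ^ e) q]
      omega

theorem pow_mul_prod_geom (q : ℕ) (degs : List ℕ) :
    (q - 1) ^ degs.length * (degs.map fun e => ∑ k ∈ Finset.range e, q ^ k).prod =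
      (degs.map fun e => q ^ e - 1).prod := by
  induction degs with
  | nil => simp
  | cons e L ih =>
    rw [List.length_cons, pow_succ, List.map_cons, List.prod_cons, List.map_cons, List.prod_cons,
      ← ih, ← pred_mul_geom q e]
    ring

/-- The order formula: `d · |G| = q^N · ∏_i (q^{d_i} - 1)`. -/
theorem card_group_of_poincare {D : ChevalleyDatum} {F : Type*} [Field F] [Fintype F] {η : ℕ → ℕ → ℤ}
    (R : BRel D F η) {q d N : ℕ} (hq : Fintype.card F = q)
    (hB : d * Nat.card ↥(D.borelSubgroup F) = q ^ N * (q - 1) ^ D.rank)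
    (NF : Finset (List ℕ))
    (hV : ∀ L ∈ NF, ValidW D L) (hRed : ∀ L ∈ NF, RedW D L)
    (hEx : ∀ L₀, ValidW D L₀ → ∃ L ∈ NF, ∀ s, D.IsPosRoot s →
      D.IsPosRoot (wW D (L.reverse ++ L₀) s))
    (hUn : ∀ L ∈ NF, ∀ L' ∈ NF, (∀ s, D.IsPosRoot s →
      D.IsPosRoot (wW D (L.reverse ++ L') s)) → L = L')
    (degs : List ℕ) (hlen : degs.length = D.rank)
    (hP : ∑ L ∈ NF, q ^ L.length = (degs.map fun e => ∑ k ∈ Finset.range e, q ^ k).prod) :
    d * Nat.card ↥(D.group F) = q ^ N * (degs.map fun e => q ^ e - 1).prod := by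
  rw [card_group_eq_sum R NF hV hRed hEx hUn, ← mul_assoc, hB, hq, hP, ← hlen, mul_assoc,
    pow_mul_prod_geom]

end Cfsg.Agent.Helper17
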