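/-
helper17: the homomorphism `SL₂(F) → GL` attached to a root `m` of a Chevalley datum with its rank-one data:
`[[1,0],[t,1]] ↦ x_m(t)`, `[[1,t],[0,1]] ↦ x_{-m}(t)`, with image `⟨X_m, X_{-m}⟩` (`exists_sl2Hom`).
-/
import Cfsg.Agent.Helper17.ChevSL2

set_option autoImplicit false
set_option linter.unusedSectionVars false
set_option linter.unusedVariables false

namespace Cfsg.Agent.Helper17

open Cfsg.Lie

section sl2hom

variable {F : Type*} [Field F]

/-- Two words in `x_m`, `x_{-m}` with the same 2×2 matrix have the same matrix. -/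
theorem wordMat_eq_of_sl2Word_eq {D : ChevalleyDatum} {m : ℕ} (hR : RankOne D m) (hC : CartanFacts D)
    (w w' : List (ℕ × F)) (hw : ∀ p ∈ w, p.1 = m ∨ p.1 = D.neg m)
    (hw' : ∀ p ∈ w', p.1 = m ∨ p.1 = D.neg m) (h : sl2Word m w = sl2Word m w') :
    D.wordMat F w = D.wordMat F w' := by
  apply eq_of_cols
  intro k
  obtain ⟨Φ, R, j, hloc, hΦ, -⟩ := exists_local (F := F) hR hC k
  exact ⟨Φ, j, hΦ, by rw [wordMat_local hloc hR.neg_ne w hw, wordMat_local hloc hR.neg_ne w' hw', h]⟩

/-- Every 2×2 matrix of determinant 1 is the matrix of a word in the two kinds of elementary matrices. -/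
theorem exists_sl2Word {m m' : ℕ} (hmm : m' ≠ m) (g : Matrix (Fin 2) (Fin 2) F) (hg : g.det = 1) :
    ∃ w : List (ℕ × F), (∀ p ∈ w, p.1 = m ∨ p.1 = m') ∧ sl2Word m w = g := by
  have hdet : g 0 0 * g 1 1 - g 0 1 * g 1 0 = 1 := by rw [← hg, Matrix.det_fin_two]
  have key : ∀ (a b c d : F), c ≠ 0 → a * d - b * c = 1 →
      sl2L ((a - 1) / c) * (sl2U c * (sl2L ((d - 1) / c) * 1)) = !![a, b; c, d] := by
    intro a b c d hc hd
    have hb : b = (a * d - 1) / c := by field_simp; linear_combination -hd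
    subst hb
    simp only [sl2U, sl2L, Matrix.one_fin_two, Matrix.mul_fin_two]
    ext i j; fin_cases i <;> fin_cases j <;> simp <;> field_simp <;> ring
  by_cases hc : g 1 0 = 0
  · -- multiply by `sl2U 1` on the left first
    have ha : g 0 0 ≠ 0 := by
      intro h0
      rw [h0, hc] at hdet
      simp at hdet
    refine ⟨[(m, -1), (m', (g 0 0 - 1) / g 0 0), (m, g 0 0), (m', (g 0 1 + g 1 1 - 1) / g 0 0)], ?_, ?_⟩
    · intro p hp
      simp only [List.mem_cons, List.not_mem_nil, or_false] at hp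
      rcases hp with rfl | rfl | rfl | rfl <;> simp
    · unfold sl2Word
      simp only [List.map_cons, List.map_nil, List.prod_cons, List.prod_nil, if_true, if_neg hmm]
      rw [key (g 0 0) (g 0 1) (g 0 0) (g 0 1 + g 1 1) ha (by rw [hc] at hdet; linear_combination hdet)]
      simp only [sl2U, Matrix.mul_fin_two]
      ext i j; fin_cases i <;> fin_cases j <;> simp [hc]
  · refine ⟨[(m', (g 0 0 - 1) / g 1 0), (m, g 1 0), (m', (g 1 1 - 1) / g 1 0)], ?_, ?_⟩
    · intro p hp
      simp only [List.mem_cons, List.not_mem_nil, or_false] at hp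
      rcases hp with rfl | rfl | rfl <;> simp
    · unfold sl2Word
      simp only [List.map_cons, List.map_nil, List.prod_cons, List.prod_nil, if_true, if_neg hmm]
      rw [key (g 0 0) (g 0 1) (g 1 0) (g 1 1) hc hdet]
      ext i j; fin_cases i <;> fin_cases j <;> simp

theorem sl2Word_append (m : ℕ) (w w' : List (ℕ × F)) :
    sl2Word m (w ++ w') = sl2Word m w * sl2Word m w' := by
  unfold sl2Word
  rw [List.map_append, List.prod_append]

/-- The matrix attached to a 2×2 matrix of determinant 1 through the root `m`. -/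
noncomputable def sl2Img (D : ChevalleyDatum) (m : ℕ) (g : Matrix (Fin 2) (Fin 2) F) :
    Matrix D.Idx D.Idx F :=
  open Classical in
  if h : ∃ w : List (ℕ × F), (∀ p ∈ w, p.1 = m ∨ p.1 = D.neg m) ∧ sl2Word m w = g then
    D.wordMat F h.choose else 1

theorem sl2Img_eq {D : ChevalleyDatum} {m : ℕ} (hR : RankOne D m) (hC : CartanFacts D)
    (w : List (ℕ × F)) (hw : ∀ p ∈ w, p.1 = m ∨ p.1 = D.neg m) :
    sl2Img D m (sl2Word m w) = D.wordMat F w := by
  unfold sl2Img
  have h : ∃ w' : List (ℕ × F), (∀ p ∈ w', p.1 = m ∨ p.1 = D.neg m) ∧ sl2Word m w' = sl2Word m w :=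
    ⟨w, hw, rfl⟩
  rw [dif_pos h]
  exact wordMat_eq_of_sl2Word_eq hR hC _ _ h.choose_spec.1 hw h.choose_spec.2

/-- The homomorphism `SL₂(F) → GL` of the root `m`. -/
theorem exists_sl2Hom {D : ChevalleyDatum} {m : ℕ} (hR : RankOne D m) (hC : CartanFacts D) :
    ∃ φ : Matrix.SpecialLinearGroup (Fin 2) F →* GL D.Idx F,
      (∀ g : Matrix.SpecialLinearGroup (Fin 2) F, ∀ w : List (ℕ × F),
        (∀ p ∈ w, p.1 = m ∨ p.1 = D.neg m) → sl2Word m w = (g : Matrix (Fin 2) (Fin 2) F) →
          ((φ g : GL D.Idx F) : Matrix D.Idx D.Idx F) = D.wordMat F w) := by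
  have hex : ∀ g : Matrix.SpecialLinearGroup (Fin 2) F, ∃ w : List (ℕ × F),
      (∀ p ∈ w, p.1 = m ∨ p.1 = D.neg m) ∧ sl2Word m w = (g : Matrix (Fin 2) (Fin 2) F) :=
    fun g => exists_sl2Word hR.neg_ne _ g.2
  let ψ : Matrix.SpecialLinearGroup (Fin 2) F →* Matrix D.Idx D.Idx F :=
    { toFun := fun g => sl2Img D m (g : Matrix (Fin 2) (Fin 2) F)
      map_one' := by
        have h1 : sl2Word m ([] : List (ℕ × F)) =
            ((1 : Matrix.SpecialLinearGroup (Fin 2) F) : Matrix (Fin 2) (Fin 2) F) := by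
          unfold sl2Word; simp
        rw [← h1, sl2Img_eq hR hC [] (by simp)]
        unfold ChevalleyDatum.wordMat; simp
      map_mul' := by
        intro g g'
        obtain ⟨w, hw, hwg⟩ := hex g
        obtain ⟨w', hw', hwg'⟩ := hex g'
        have h1 : sl2Word m (w ++ w') =
            ((g * g' : Matrix.SpecialLinearGroup (Fin 2) F) : Matrix (Fin 2) (Fin 2) F) := by
          rw [sl2Word_append, hwg, hwg', Matrix.SpecialLinearGroup.coe_mul]
        rw [← h1, ← hwg, ← hwg', sl2Img_eq hR hC w hw, sl2Img_eq hR hC w' hw',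
          sl2Img_eq hR hC (w ++ w') (by
            intro p hp
            rcases List.mem_append.mp hp with h | h
            · exact hw p h
            · exact hw' p h)]
        unfold ChevalleyDatum.wordMat
        rw [List.map_append, List.prod_append] }
  refine ⟨ψ.toHomUnits, ?_⟩
  intro g w hw hwg
  show sl2Img D m (g : Matrix (Fin 2) (Fin 2) F) = _
  rw [← hwg, sl2Img_eq hR hC w hw]

end sl2hom

end Cfsg.Agent.Helper17
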