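/-
helper17: definitions for S1082 (D₄(F) ≅ PΩ₈⁺(F)): the quadratic form `x0 x4 + x1 x5 + x2 x6 + x3 x7` on `F^8`
(coordinates e1, e2, e3, e4, f1, f2, f3, f4 = indices 0..7), explicit root elements `xg r t` (r < 24) of its
isometry group `O8 F` satisfying Steinberg's relations for the datum `chevD4`, the group `G8 F` they generate, the
diagonal elements `dg a b c d = diag(a, b, c, d, a⁻¹, b⁻¹, c⁻¹, d⁻¹)` and the element `sw` swapping e4 and f4.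

Root indices (those of `chevD4`) in terms of the coordinate weights (e_i has weight e_i, f_i has weight -e_i):

   0: -e1-e2   x_r(t) = 1 + t * (-E[f1,e2] + E[f2,e1])
   1: -e1-e3   x_r(t) = 1 + t * (-E[f1,e3] + E[f3,e1])
   2: -e1+e4   x_r(t) = 1 + t * (E[e4,e1] - E[f1,f4])
   3: -e1-e4   x_r(t) = 1 + t * (-E[f1,e4] + E[f4,e1])
   4: -e1+e3   x_r(t) = 1 + t * (-E[e3,e1] + E[f1,f3])
   5: -e1+e2   x_r(t) = 1 + t * (E[e2,e1] - E[f1,f2])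
   6: -e2-e3   x_r(t) = 1 + t * (E[f2,e3] - E[f3,e2])
   7: -e2+e4   x_r(t) = 1 + t * (-E[e4,e2] + E[f2,f4])
   8: -e2-e4   x_r(t) = 1 + t * (E[f2,e4] - E[f4,e2])
   9: -e2+e3   x_r(t) = 1 + t * (E[e3,e2] - E[f2,f3])
  10: -e3+e4   x_r(t) = 1 + t * (E[e4,e3] - E[f3,f4])
  11: -e3-e4   x_r(t) = 1 + t * (-E[f3,e4] + E[f4,e3])
  12: e3+e4    x_r(t) = 1 + t * (E[e3,f4] - E[e4,f3])
  13: e3-e4    x_r(t) = 1 + t * (E[e3,e4] - E[f4,f3])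
  14: e2-e3    x_r(t) = 1 + t * (E[e2,e3] - E[f3,f2])
  15: e2+e4    x_r(t) = 1 + t * (-E[e2,f4] + E[e4,f2])
  16: e2-e4    x_r(t) = 1 + t * (-E[e2,e4] + E[f4,f2])
  17: e2+e3    x_r(t) = 1 + t * (-E[e2,f3] + E[e3,f2])
  18: e1-e2    x_r(t) = 1 + t * (E[e1,e2] - E[f2,f1])
  19: e1-e3    x_r(t) = 1 + t * (-E[e1,e3] + E[f3,f1])
  20: e1+e4    x_r(t) = 1 + t * (E[e1,f4] - E[e4,f1])
  21: e1-e4    x_r(t) = 1 + t * (E[e1,e4] - E[f4,f1])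
  22: e1+e3    x_r(t) = 1 + t * (E[e1,f3] - E[e3,f1])
  23: e1+e2    x_r(t) = 1 + t * (E[e1,f2] - E[e2,f1])
(E[a,b] maps the basis vector b to a).  The negative of root `r` is `23 - r`.
-/
import Mathlib
import Cfsg.Prelude.Def_Steinberg
import Cfsg.Prelude.Def_ChevD4
import Cfsg.Prelude.Def_Classical

set_option autoImplicit false
open Matrix

namespace Cfsg.Agent.Helper17.D4

variable {F : Type*} [Field F]

/-- The quadratic form `x0 x4 + x1 x5 + x2 x6 + x3 x7`. -/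
def Q8 (v : Fin 8 → F) : F := v 0 * v 4 + v 1 * v 5 + v 2 * v 6 + v 3 * v 7

/-- Its polar form. -/
def B8 (u v : Fin 8 → F) : F :=
  u 0 * v 4 + u 4 * v 0 + u 1 * v 5 + u 5 * v 1 + u 2 * v 6 + u 6 * v 2 + u 3 * v 7 + u 7 * v 3

theorem B8_eq (u v : Fin 8 → F) : B8 u v = Q8 (u + v) - Q8 u - Q8 v := by
  simp only [B8, Q8, Pi.add_apply]
  ring

/-- Two `8 × 8` matrices with the same action on vectors are equal. -/
theorem mat_ext_mulVec {A B : Matrix (Fin 8) (Fin 8) F} (h : ∀ v : Fin 8 → F, A *ᵥ v = B *ᵥ v) : A = B := by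
  ext i j
  have := congrFun (h (Pi.single j 1)) i
  simpa using this

/-- The root element `x_r(t)` as an `8 × 8` matrix (identity for `r ≥ 24`). -/
def xm (r : ℕ) (t : F) : Matrix (Fin 8) (Fin 8) F :=
  match r with
  | 0 => !![1, 0, 0, 0, 0, 0, 0, 0; 0, 1, 0, 0, 0, 0, 0, 0; 0, 0, 1, 0, 0, 0, 0, 0; 0, 0, 0, 1, 0, 0, 0, 0; 0, -t, 0, 0, 1, 0, 0, 0; t, 0, 0, 0, 0, 1, 0, 0; 0, 0, 0, 0, 0, 0, 1, 0; 0, 0, 0, 0, 0, 0, 0, 1]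
  | 1 => !![1, 0, 0, 0, 0, 0, 0, 0; 0, 1, 0, 0, 0, 0, 0, 0; 0, 0, 1, 0, 0, 0, 0, 0; 0, 0, 0, 1, 0, 0, 0, 0; 0, 0, -t, 0, 1, 0, 0, 0; 0, 0, 0, 0, 0, 1, 0, 0; t, 0, 0, 0, 0, 0, 1, 0; 0, 0, 0, 0, 0, 0, 0, 1]
  | 2 => !![1, 0, 0, 0, 0, 0, 0, 0; 0, 1, 0, 0, 0, 0, 0, 0; 0, 0, 1, 0, 0, 0, 0, 0; t, 0, 0, 1, 0, 0, 0, 0; 0, 0, 0, 0, 1, 0, 0, -t; 0, 0, 0, 0, 0, 1, 0, 0; 0, 0, 0, 0, 0, 0, 1, 0; 0, 0, 0, 0, 0, 0, 0, 1]
  | 3 => !![1, 0, 0, 0, 0, 0, 0, 0; 0, 1, 0, 0, 0, 0, 0, 0; 0, 0, 1, 0, 0, 0, 0, 0; 0, 0, 0, 1, 0, 0, 0, 0; 0, 0, 0, -t, 1, 0, 0, 0; 0, 0, 0, 0, 0, 1, 0, 0; 0, 0, 0, 0, 0, 0, 1, 0; t, 0, 0, 0, 0, 0, 0, 1]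
  | 4 => !![1, 0, 0, 0, 0, 0, 0, 0; 0, 1, 0, 0, 0, 0, 0, 0; -t, 0, 1, 0, 0, 0, 0, 0; 0, 0, 0, 1, 0, 0, 0, 0; 0, 0, 0, 0, 1, 0, t, 0; 0, 0, 0, 0, 0, 1, 0, 0; 0, 0, 0, 0, 0, 0, 1, 0; 0, 0, 0, 0, 0, 0, 0, 1]
  | 5 => !![1, 0, 0, 0, 0, 0, 0, 0; t, 1, 0, 0, 0, 0, 0, 0; 0, 0, 1, 0, 0, 0, 0, 0; 0, 0, 0, 1, 0, 0, 0, 0; 0, 0, 0, 0, 1, -t, 0, 0; 0, 0, 0, 0, 0, 1, 0, 0; 0, 0, 0, 0, 0, 0, 1, 0; 0, 0, 0, 0, 0, 0, 0, 1]
  | 6 => !![1, 0, 0, 0, 0, 0, 0, 0; 0, 1, 0, 0, 0, 0, 0, 0; 0, 0, 1, 0, 0, 0, 0, 0; 0, 0, 0, 1, 0, 0, 0, 0; 0, 0, 0, 0, 1, 0, 0, 0; 0, 0, t, 0, 0, 1, 0, 0; 0, -t, 0, 0, 0, 0, 1, 0; 0, 0, 0, 0, 0, 0, 0, 1]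
  | 7 => !![1, 0, 0, 0, 0, 0, 0, 0; 0, 1, 0, 0, 0, 0, 0, 0; 0, 0, 1, 0, 0, 0, 0, 0; 0, -t, 0, 1, 0, 0, 0, 0; 0, 0, 0, 0, 1, 0, 0, 0; 0, 0, 0, 0, 0, 1, 0, t; 0, 0, 0, 0, 0, 0, 1, 0; 0, 0, 0, 0, 0, 0, 0, 1]
  | 8 => !![1, 0, 0, 0, 0, 0, 0, 0; 0, 1, 0, 0, 0, 0, 0, 0; 0, 0, 1, 0, 0, 0, 0, 0; 0, 0, 0, 1, 0, 0, 0, 0; 0, 0, 0, 0, 1, 0, 0, 0; 0, 0, 0, t, 0, 1, 0, 0; 0, 0, 0, 0, 0, 0, 1, 0; 0, -t, 0, 0, 0, 0, 0, 1]
  | 9 => !![1, 0, 0, 0, 0, 0, 0, 0; 0, 1, 0, 0, 0, 0, 0, 0; 0, t, 1, 0, 0, 0, 0, 0; 0, 0, 0, 1, 0, 0, 0, 0; 0, 0, 0, 0, 1, 0, 0, 0; 0, 0, 0, 0, 0, 1, -t, 0; 0, 0, 0, 0, 0, 0, 1, 0; 0, 0, 0, 0, 0, 0, 0, 1]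
  | 10 => !![1, 0, 0, 0, 0, 0, 0, 0; 0, 1, 0, 0, 0, 0, 0, 0; 0, 0, 1, 0, 0, 0, 0, 0; 0, 0, t, 1, 0, 0, 0, 0; 0, 0, 0, 0, 1, 0, 0, 0; 0, 0, 0, 0, 0, 1, 0, 0; 0, 0, 0, 0, 0, 0, 1, -t; 0, 0, 0, 0, 0, 0, 0, 1]
  | 11 => !![1, 0, 0, 0, 0, 0, 0, 0; 0, 1, 0, 0, 0, 0, 0, 0; 0, 0, 1, 0, 0, 0, 0, 0; 0, 0, 0, 1, 0, 0, 0, 0; 0, 0, 0, 0, 1, 0, 0, 0; 0, 0, 0, 0, 0, 1, 0, 0; 0, 0, 0, -t, 0, 0, 1, 0; 0, 0, t, 0, 0, 0, 0, 1]
  | 12 => !![1, 0, 0, 0, 0, 0, 0, 0; 0, 1, 0, 0, 0, 0, 0, 0; 0, 0, 1, 0, 0, 0, 0, t; 0, 0, 0, 1, 0, 0, -t, 0; 0, 0, 0, 0, 1, 0, 0, 0; 0, 0, 0, 0, 0, 1, 0, 0; 0, 0, 0, 0, 0, 0, 1, 0; 0, 0, 0, 0, 0, 0, 0, 1]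
  | 13 => !![1, 0, 0, 0, 0, 0, 0, 0; 0, 1, 0, 0, 0, 0, 0, 0; 0, 0, 1, t, 0, 0, 0, 0; 0, 0, 0, 1, 0, 0, 0, 0; 0, 0, 0, 0, 1, 0, 0, 0; 0, 0, 0, 0, 0, 1, 0, 0; 0, 0, 0, 0, 0, 0, 1, 0; 0, 0, 0, 0, 0, 0, -t, 1]
  | 14 => !![1, 0, 0, 0, 0, 0, 0, 0; 0, 1, t, 0, 0, 0, 0, 0; 0, 0, 1, 0, 0, 0, 0, 0; 0, 0, 0, 1, 0, 0, 0, 0; 0, 0, 0, 0, 1, 0, 0, 0; 0, 0, 0, 0, 0, 1, 0, 0; 0, 0, 0, 0, 0, -t, 1, 0; 0, 0, 0, 0, 0, 0, 0, 1]
  | 15 => !![1, 0, 0, 0, 0, 0, 0, 0; 0, 1, 0, 0, 0, 0, 0, -t; 0, 0, 1, 0, 0, 0, 0, 0; 0, 0, 0, 1, 0, t, 0, 0; 0, 0, 0, 0, 1, 0, 0, 0; 0, 0, 0, 0, 0, 1, 0, 0; 0, 0, 0, 0, 0, 0, 1, 0; 0, 0, 0, 0, 0, 0, 0, 1]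
  | 16 => !![1, 0, 0, 0, 0, 0, 0, 0; 0, 1, 0, -t, 0, 0, 0, 0; 0, 0, 1, 0, 0, 0, 0, 0; 0, 0, 0, 1, 0, 0, 0, 0; 0, 0, 0, 0, 1, 0, 0, 0; 0, 0, 0, 0, 0, 1, 0, 0; 0, 0, 0, 0, 0, 0, 1, 0; 0, 0, 0, 0, 0, t, 0, 1]
  | 17 => !![1, 0, 0, 0, 0, 0, 0, 0; 0, 1, 0, 0, 0, 0, -t, 0; 0, 0, 1, 0, 0, t, 0, 0; 0, 0, 0, 1, 0, 0, 0, 0; 0, 0, 0, 0, 1, 0, 0, 0; 0, 0, 0, 0, 0, 1, 0, 0; 0, 0, 0, 0, 0, 0, 1, 0; 0, 0, 0, 0, 0, 0, 0, 1]
  | 18 => !![1, t, 0, 0, 0, 0, 0, 0; 0, 1, 0, 0, 0, 0, 0, 0; 0, 0, 1, 0, 0, 0, 0, 0; 0, 0, 0, 1, 0, 0, 0, 0; 0, 0, 0, 0, 1, 0, 0, 0; 0, 0, 0, 0, -t, 1, 0, 0; 0, 0, 0, 0, 0, 0, 1, 0; 0, 0, 0, 0, 0, 0, 0, 1]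
  | 19 => !![1, 0, -t, 0, 0, 0, 0, 0; 0, 1, 0, 0, 0, 0, 0, 0; 0, 0, 1, 0, 0, 0, 0, 0; 0, 0, 0, 1, 0, 0, 0, 0; 0, 0, 0, 0, 1, 0, 0, 0; 0, 0, 0, 0, 0, 1, 0, 0; 0, 0, 0, 0, t, 0, 1, 0; 0, 0, 0, 0, 0, 0, 0, 1]
  | 20 => !![1, 0, 0, 0, 0, 0, 0, t; 0, 1, 0, 0, 0, 0, 0, 0; 0, 0, 1, 0, 0, 0, 0, 0; 0, 0, 0, 1, -t, 0, 0, 0; 0, 0, 0, 0, 1, 0, 0, 0; 0, 0, 0, 0, 0, 1, 0, 0; 0, 0, 0, 0, 0, 0, 1, 0; 0, 0, 0, 0, 0, 0, 0, 1]
  | 21 => !![1, 0, 0, t, 0, 0, 0, 0; 0, 1, 0, 0, 0, 0, 0, 0; 0, 0, 1, 0, 0, 0, 0, 0; 0, 0, 0, 1, 0, 0, 0, 0; 0, 0, 0, 0, 1, 0, 0, 0; 0, 0, 0, 0, 0, 1, 0, 0; 0, 0, 0, 0, 0, 0, 1, 0; 0, 0, 0, 0, -t, 0, 0, 1]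
  | 22 => !![1, 0, 0, 0, 0, 0, t, 0; 0, 1, 0, 0, 0, 0, 0, 0; 0, 0, 1, 0, -t, 0, 0, 0; 0, 0, 0, 1, 0, 0, 0, 0; 0, 0, 0, 0, 1, 0, 0, 0; 0, 0, 0, 0, 0, 1, 0, 0; 0, 0, 0, 0, 0, 0, 1, 0; 0, 0, 0, 0, 0, 0, 0, 1]
  | 23 => !![1, 0, 0, 0, 0, t, 0, 0; 0, 1, 0, 0, -t, 0, 0, 0; 0, 0, 1, 0, 0, 0, 0, 0; 0, 0, 0, 1, 0, 0, 0, 0; 0, 0, 0, 0, 1, 0, 0, 0; 0, 0, 0, 0, 0, 1, 0, 0; 0, 0, 0, 0, 0, 0, 1, 0; 0, 0, 0, 0, 0, 0, 0, 1]
  | _ => 1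

theorem xm_of_ge (r : ℕ) (hr : 24 ≤ r) (t : F) : xm r t = 1 := by
  unfold xm
  split <;> first | omega | rfl

theorem xm_mulVec_0 (t : F) (v : Fin 8 → F) : xm 0 t *ᵥ v = ![v 0, v 1, v 2, v 3, v 4 - t * v 1, v 5 + t * v 0, v 6, v 7] := by
  funext i; fin_cases i <;> simp [xm, Matrix.mulVec, dotProduct, Fin.sum_univ_eight] <;> ring
theorem xm_mulVec_1 (t : F) (v : Fin 8 → F) : xm 1 t *ᵥ v = ![v 0, v 1, v 2, v 3, v 4 - t * v 2, v 5, v 6 + t * v 0, v 7] := by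
  funext i; fin_cases i <;> simp [xm, Matrix.mulVec, dotProduct, Fin.sum_univ_eight] <;> ring
theorem xm_mulVec_2 (t : F) (v : Fin 8 → F) : xm 2 t *ᵥ v = ![v 0, v 1, v 2, v 3 + t * v 0, v 4 - t * v 7, v 5, v 6, v 7] := by
  funext i; fin_cases i <;> simp [xm, Matrix.mulVec, dotProduct, Fin.sum_univ_eight] <;> ring
theorem xm_mulVec_3 (t : F) (v : Fin 8 → F) : xm 3 t *ᵥ v = ![v 0, v 1, v 2, v 3, v 4 - t * v 3, v 5, v 6, v 7 + t * v 0] := by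
  funext i; fin_cases i <;> simp [xm, Matrix.mulVec, dotProduct, Fin.sum_univ_eight] <;> ring
theorem xm_mulVec_4 (t : F) (v : Fin 8 → F) : xm 4 t *ᵥ v = ![v 0, v 1, v 2 - t * v 0, v 3, v 4 + t * v 6, v 5, v 6, v 7] := by
  funext i; fin_cases i <;> simp [xm, Matrix.mulVec, dotProduct, Fin.sum_univ_eight] <;> ring
theorem xm_mulVec_5 (t : F) (v : Fin 8 → F) : xm 5 t *ᵥ v = ![v 0, v 1 + t * v 0, v 2, v 3, v 4 - t * v 5, v 5, v 6, v 7] := by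
  funext i; fin_cases i <;> simp [xm, Matrix.mulVec, dotProduct, Fin.sum_univ_eight] <;> ring
theorem xm_mulVec_6 (t : F) (v : Fin 8 → F) : xm 6 t *ᵥ v = ![v 0, v 1, v 2, v 3, v 4, v 5 + t * v 2, v 6 - t * v 1, v 7] := by
  funext i; fin_cases i <;> simp [xm, Matrix.mulVec, dotProduct, Fin.sum_univ_eight] <;> ring
theorem xm_mulVec_7 (t : F) (v : Fin 8 → F) : xm 7 t *ᵥ v = ![v 0, v 1, v 2, v 3 - t * v 1, v 4, v 5 + t * v 7, v 6, v 7] := by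
  funext i; fin_cases i <;> simp [xm, Matrix.mulVec, dotProduct, Fin.sum_univ_eight] <;> ring
theorem xm_mulVec_8 (t : F) (v : Fin 8 → F) : xm 8 t *ᵥ v = ![v 0, v 1, v 2, v 3, v 4, v 5 + t * v 3, v 6, v 7 - t * v 1] := by
  funext i; fin_cases i <;> simp [xm, Matrix.mulVec, dotProduct, Fin.sum_univ_eight] <;> ring
theorem xm_mulVec_9 (t : F) (v : Fin 8 → F) : xm 9 t *ᵥ v = ![v 0, v 1, v 2 + t * v 1, v 3, v 4, v 5 - t * v 6, v 6, v 7] := by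
  funext i; fin_cases i <;> simp [xm, Matrix.mulVec, dotProduct, Fin.sum_univ_eight] <;> ring
theorem xm_mulVec_10 (t : F) (v : Fin 8 → F) : xm 10 t *ᵥ v = ![v 0, v 1, v 2, v 3 + t * v 2, v 4, v 5, v 6 - t * v 7, v 7] := by
  funext i; fin_cases i <;> simp [xm, Matrix.mulVec, dotProduct, Fin.sum_univ_eight] <;> ring
theorem xm_mulVec_11 (t : F) (v : Fin 8 → F) : xm 11 t *ᵥ v = ![v 0, v 1, v 2, v 3, v 4, v 5, v 6 - t * v 3, v 7 + t * v 2] := by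
  funext i; fin_cases i <;> simp [xm, Matrix.mulVec, dotProduct, Fin.sum_univ_eight] <;> ring
theorem xm_mulVec_12 (t : F) (v : Fin 8 → F) : xm 12 t *ᵥ v = ![v 0, v 1, v 2 + t * v 7, v 3 - t * v 6, v 4, v 5, v 6, v 7] := by
  funext i; fin_cases i <;> simp [xm, Matrix.mulVec, dotProduct, Fin.sum_univ_eight] <;> ring
theorem xm_mulVec_13 (t : F) (v : Fin 8 → F) : xm 13 t *ᵥ v = ![v 0, v 1, v 2 + t * v 3, v 3, v 4, v 5, v 6, v 7 - t * v 6] := by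
  funext i; fin_cases i <;> simp [xm, Matrix.mulVec, dotProduct, Fin.sum_univ_eight] <;> ring
theorem xm_mulVec_14 (t : F) (v : Fin 8 → F) : xm 14 t *ᵥ v = ![v 0, v 1 + t * v 2, v 2, v 3, v 4, v 5, v 6 - t * v 5, v 7] := by
  funext i; fin_cases i <;> simp [xm, Matrix.mulVec, dotProduct, Fin.sum_univ_eight] <;> ring
theorem xm_mulVec_15 (t : F) (v : Fin 8 → F) : xm 15 t *ᵥ v = ![v 0, v 1 - t * v 7, v 2, v 3 + t * v 5, v 4, v 5, v 6, v 7] := by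
  funext i; fin_cases i <;> simp [xm, Matrix.mulVec, dotProduct, Fin.sum_univ_eight] <;> ring
theorem xm_mulVec_16 (t : F) (v : Fin 8 → F) : xm 16 t *ᵥ v = ![v 0, v 1 - t * v 3, v 2, v 3, v 4, v 5, v 6, v 7 + t * v 5] := by
  funext i; fin_cases i <;> simp [xm, Matrix.mulVec, dotProduct, Fin.sum_univ_eight] <;> ring
theorem xm_mulVec_17 (t : F) (v : Fin 8 → F) : xm 17 t *ᵥ v = ![v 0, v 1 - t * v 6, v 2 + t * v 5, v 3, v 4, v 5, v 6, v 7] := by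
  funext i; fin_cases i <;> simp [xm, Matrix.mulVec, dotProduct, Fin.sum_univ_eight] <;> ring
theorem xm_mulVec_18 (t : F) (v : Fin 8 → F) : xm 18 t *ᵥ v = ![v 0 + t * v 1, v 1, v 2, v 3, v 4, v 5 - t * v 4, v 6, v 7] := by
  funext i; fin_cases i <;> simp [xm, Matrix.mulVec, dotProduct, Fin.sum_univ_eight] <;> ring
theorem xm_mulVec_19 (t : F) (v : Fin 8 → F) : xm 19 t *ᵥ v = ![v 0 - t * v 2, v 1, v 2, v 3, v 4, v 5, v 6 + t * v 4, v 7] := by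
  funext i; fin_cases i <;> simp [xm, Matrix.mulVec, dotProduct, Fin.sum_univ_eight] <;> ring
theorem xm_mulVec_20 (t : F) (v : Fin 8 → F) : xm 20 t *ᵥ v = ![v 0 + t * v 7, v 1, v 2, v 3 - t * v 4, v 4, v 5, v 6, v 7] := by
  funext i; fin_cases i <;> simp [xm, Matrix.mulVec, dotProduct, Fin.sum_univ_eight] <;> ring
theorem xm_mulVec_21 (t : F) (v : Fin 8 → F) : xm 21 t *ᵥ v = ![v 0 + t * v 3, v 1, v 2, v 3, v 4, v 5, v 6, v 7 - t * v 4] := by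
  funext i; fin_cases i <;> simp [xm, Matrix.mulVec, dotProduct, Fin.sum_univ_eight] <;> ring
theorem xm_mulVec_22 (t : F) (v : Fin 8 → F) : xm 22 t *ᵥ v = ![v 0 + t * v 6, v 1, v 2 - t * v 4, v 3, v 4, v 5, v 6, v 7] := by
  funext i; fin_cases i <;> simp [xm, Matrix.mulVec, dotProduct, Fin.sum_univ_eight] <;> ring
theorem xm_mulVec_23 (t : F) (v : Fin 8 → F) : xm 23 t *ᵥ v = ![v 0 + t * v 5, v 1 - t * v 4, v 2, v 3, v 4, v 5, v 6, v 7] := by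
  funext i; fin_cases i <;> simp [xm, Matrix.mulVec, dotProduct, Fin.sum_univ_eight] <;> ring

/-- Root elements preserve the quadratic form. -/
theorem xm_Q8 (r : ℕ) (t : F) (v : Fin 8 → F) : Q8 (xm r t *ᵥ v) = Q8 v := by
  by_cases hr : 24 ≤ r
  · rw [xm_of_ge r hr, Matrix.one_mulVec]
  · have h24 : r < 24 := by omega
    interval_cases r
    · rw [xm_mulVec_0]; simp only [Q8, Matrix.cons_val]; ring
    · rw [xm_mulVec_1]; simp only [Q8, Matrix.cons_val]; ring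
    · rw [xm_mulVec_2]; simp only [Q8, Matrix.cons_val]; ring
    · rw [xm_mulVec_3]; simp only [Q8, Matrix.cons_val]; ring
    · rw [xm_mulVec_4]; simp only [Q8, Matrix.cons_val]; ring
    · rw [xm_mulVec_5]; simp only [Q8, Matrix.cons_val]; ring
    · rw [xm_mulVec_6]; simp only [Q8, Matrix.cons_val]; ring
    · rw [xm_mulVec_7]; simp only [Q8, Matrix.cons_val]; ring
    · rw [xm_mulVec_8]; simp only [Q8, Matrix.cons_val]; ring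
    · rw [xm_mulVec_9]; simp only [Q8, Matrix.cons_val]; ring
    · rw [xm_mulVec_10]; simp only [Q8, Matrix.cons_val]; ring
    · rw [xm_mulVec_11]; simp only [Q8, Matrix.cons_val]; ring
    · rw [xm_mulVec_12]; simp only [Q8, Matrix.cons_val]; ring
    · rw [xm_mulVec_13]; simp only [Q8, Matrix.cons_val]; ring
    · rw [xm_mulVec_14]; simp only [Q8, Matrix.cons_val]; ring
    · rw [xm_mulVec_15]; simp only [Q8, Matrix.cons_val]; ring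
    · rw [xm_mulVec_16]; simp only [Q8, Matrix.cons_val]; ring
    · rw [xm_mulVec_17]; simp only [Q8, Matrix.cons_val]; ring
    · rw [xm_mulVec_18]; simp only [Q8, Matrix.cons_val]; ring
    · rw [xm_mulVec_19]; simp only [Q8, Matrix.cons_val]; ring
    · rw [xm_mulVec_20]; simp only [Q8, Matrix.cons_val]; ring
    · rw [xm_mulVec_21]; simp only [Q8, Matrix.cons_val]; ring
    · rw [xm_mulVec_22]; simp only [Q8, Matrix.cons_val]; ring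
    · rw [xm_mulVec_23]; simp only [Q8, Matrix.cons_val]; ring

theorem xm_zero (r : ℕ) : xm r (0 : F) = 1 := by
  by_cases hr : 24 ≤ r
  · exact xm_of_ge r hr 0
  · have h24 : r < 24 := by omega
    apply mat_ext_mulVec
    intro v
    rw [Matrix.one_mulVec]
    interval_cases r
    · rw [xm_mulVec_0]; funext i; fin_cases i <;> simp
    · rw [xm_mulVec_1]; funext i; fin_cases i <;> simp
    · rw [xm_mulVec_2]; funext i; fin_cases i <;> simp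
    · rw [xm_mulVec_3]; funext i; fin_cases i <;> simp
    · rw [xm_mulVec_4]; funext i; fin_cases i <;> simp
    · rw [xm_mulVec_5]; funext i; fin_cases i <;> simp
    · rw [xm_mulVec_6]; funext i; fin_cases i <;> simp
    · rw [xm_mulVec_7]; funext i; fin_cases i <;> simp
    · rw [xm_mulVec_8]; funext i; fin_cases i <;> simp
    · rw [xm_mulVec_9]; funext i; fin_cases i <;> simp
    · rw [xm_mulVec_10]; funext i; fin_cases i <;> simp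
    · rw [xm_mulVec_11]; funext i; fin_cases i <;> simp
    · rw [xm_mulVec_12]; funext i; fin_cases i <;> simp
    · rw [xm_mulVec_13]; funext i; fin_cases i <;> simp
    · rw [xm_mulVec_14]; funext i; fin_cases i <;> simp
    · rw [xm_mulVec_15]; funext i; fin_cases i <;> simp
    · rw [xm_mulVec_16]; funext i; fin_cases i <;> simp
    · rw [xm_mulVec_17]; funext i; fin_cases i <;> simp
    · rw [xm_mulVec_18]; funext i; fin_cases i <;> simp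
    · rw [xm_mulVec_19]; funext i; fin_cases i <;> simp
    · rw [xm_mulVec_20]; funext i; fin_cases i <;> simp
    · rw [xm_mulVec_21]; funext i; fin_cases i <;> simp
    · rw [xm_mulVec_22]; funext i; fin_cases i <;> simp
    · rw [xm_mulVec_23]; funext i; fin_cases i <;> simp

theorem xm_add (r : ℕ) (t u : F) : xm r t * xm r u = xm r (t + u) := by
  by_cases hr : 24 ≤ r
  · rw [xm_of_ge r hr, xm_of_ge r hr, xm_of_ge r hr, Matrix.one_mul]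
  · have h24 : r < 24 := by omega
    apply mat_ext_mulVec
    intro v
    rw [← Matrix.mulVec_mulVec]
    interval_cases r
    · rw [xm_mulVec_0, xm_mulVec_0, xm_mulVec_0]; funext i; fin_cases i <;> simp <;> ring
    · rw [xm_mulVec_1, xm_mulVec_1, xm_mulVec_1]; funext i; fin_cases i <;> simp <;> ring
    · rw [xm_mulVec_2, xm_mulVec_2, xm_mulVec_2]; funext i; fin_cases i <;> simp <;> ring
    · rw [xm_mulVec_3, xm_mulVec_3, xm_mulVec_3]; funext i; fin_cases i <;> simp <;> ring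
    · rw [xm_mulVec_4, xm_mulVec_4, xm_mulVec_4]; funext i; fin_cases i <;> simp <;> ring
    · rw [xm_mulVec_5, xm_mulVec_5, xm_mulVec_5]; funext i; fin_cases i <;> simp <;> ring
    · rw [xm_mulVec_6, xm_mulVec_6, xm_mulVec_6]; funext i; fin_cases i <;> simp <;> ring
    · rw [xm_mulVec_7, xm_mulVec_7, xm_mulVec_7]; funext i; fin_cases i <;> simp <;> ring
    · rw [xm_mulVec_8, xm_mulVec_8, xm_mulVec_8]; funext i; fin_cases i <;> simp <;> ring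
    · rw [xm_mulVec_9, xm_mulVec_9, xm_mulVec_9]; funext i; fin_cases i <;> simp <;> ring
    · rw [xm_mulVec_10, xm_mulVec_10, xm_mulVec_10]; funext i; fin_cases i <;> simp <;> ring
    · rw [xm_mulVec_11, xm_mulVec_11, xm_mulVec_11]; funext i; fin_cases i <;> simp <;> ring
    · rw [xm_mulVec_12, xm_mulVec_12, xm_mulVec_12]; funext i; fin_cases i <;> simp <;> ring
    · rw [xm_mulVec_13, xm_mulVec_13, xm_mulVec_13]; funext i; fin_cases i <;> simp <;> ring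
    · rw [xm_mulVec_14, xm_mulVec_14, xm_mulVec_14]; funext i; fin_cases i <;> simp <;> ring
    · rw [xm_mulVec_15, xm_mulVec_15, xm_mulVec_15]; funext i; fin_cases i <;> simp <;> ring
    · rw [xm_mulVec_16, xm_mulVec_16, xm_mulVec_16]; funext i; fin_cases i <;> simp <;> ring
    · rw [xm_mulVec_17, xm_mulVec_17, xm_mulVec_17]; funext i; fin_cases i <;> simp <;> ring
    · rw [xm_mulVec_18, xm_mulVec_18, xm_mulVec_18]; funext i; fin_cases i <;> simp <;> ring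
    · rw [xm_mulVec_19, xm_mulVec_19, xm_mulVec_19]; funext i; fin_cases i <;> simp <;> ring
    · rw [xm_mulVec_20, xm_mulVec_20, xm_mulVec_20]; funext i; fin_cases i <;> simp <;> ring
    · rw [xm_mulVec_21, xm_mulVec_21, xm_mulVec_21]; funext i; fin_cases i <;> simp <;> ring
    · rw [xm_mulVec_22, xm_mulVec_22, xm_mulVec_22]; funext i; fin_cases i <;> simp <;> ring
    · rw [xm_mulVec_23, xm_mulVec_23, xm_mulVec_23]; funext i; fin_cases i <;> simp <;> ring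

/-- The root element `x_r(t)` in the general linear group. -/
def xg (r : ℕ) (t : F) : GL (Fin 8) F :=
  ⟨xm r t, xm r (-t), by rw [xm_add, add_neg_cancel, xm_zero], by rw [xm_add, neg_add_cancel, xm_zero]⟩

theorem xg_val (r : ℕ) (t : F) : ((xg r t : GL (Fin 8) F) : Matrix (Fin 8) (Fin 8) F) = xm r t := rfl

theorem xg_add (r : ℕ) (t u : F) : xg r t * xg r u = xg r (t + u) := by
  apply Units.ext
  rw [Units.val_mul, xg_val, xg_val, xg_val, xm_add]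

theorem xg_zero (r : ℕ) : xg r (0 : F) = 1 := by
  apply Units.ext
  rw [xg_val, xm_zero, Units.val_one]

theorem xg_inv (r : ℕ) (t : F) : (xg r t)⁻¹ = xg r (-t) := by
  apply inv_eq_of_mul_eq_one_right
  rw [xg_add, add_neg_cancel, xg_zero]

theorem xg_of_ge (r : ℕ) (hr : 24 ≤ r) (t : F) : xg r t = 1 := by
  apply Units.ext
  rw [xg_val, xm_of_ge r hr, Units.val_one]

/-- The isometry group of `Q8` inside `GL_8(F)`. -/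
def O8 (F : Type*) [Field F] : Subgroup (GL (Fin 8) F) where
  carrier := {g | ∀ v, Q8 ((g : Matrix (Fin 8) (Fin 8) F) *ᵥ v) = Q8 v}
  mul_mem' := by
    intro a b ha hb v
    rw [Units.val_mul, ← Matrix.mulVec_mulVec, ha, hb]
  one_mem' := by
    intro v
    rw [Units.val_one, Matrix.one_mulVec]
  inv_mem' := by
    intro a ha v
    have h := ha (((a⁻¹ : GL (Fin 8) F) : Matrix (Fin 8) (Fin 8) F) *ᵥ v)
    rw [Matrix.mulVec_mulVec, ← Units.val_mul, mul_inv_cancel, Units.val_one, Matrix.one_mulVec] at h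
    exact h.symm

theorem mem_O8 (g : GL (Fin 8) F) :
    g ∈ O8 F ↔ ∀ v, Q8 ((g : Matrix (Fin 8) (Fin 8) F) *ᵥ v) = Q8 v := Iff.rfl

/-- Isometries preserve the polar form. -/
theorem O8_B8 (g : GL (Fin 8) F) (hg : g ∈ O8 F) (u v : Fin 8 → F) :
    B8 ((g : Matrix (Fin 8) (Fin 8) F) *ᵥ u) ((g : Matrix (Fin 8) (Fin 8) F) *ᵥ v) = B8 u v := by
  rw [B8_eq, B8_eq, ← Matrix.mulVec_add, hg, hg, hg]

theorem xg_mem_O8 (r : ℕ) (t : F) : xg r t ∈ O8 F := fun v => xm_Q8 r t v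

/-- The group generated by the root elements. -/
def G8 (F : Type*) [Field F] : Subgroup (GL (Fin 8) F) :=
  Subgroup.closure {g | ∃ r < 24, ∃ t : F, g = xg r t}

theorem xg_mem_G8 (r : ℕ) (t : F) : xg r t ∈ G8 F := by
  by_cases hr : 24 ≤ r
  · rw [xg_of_ge r hr]
    exact Subgroup.one_mem _
  · exact Subgroup.subset_closure ⟨r, by omega, t, rfl⟩

theorem G8_le_O8 : G8 F ≤ O8 F := by
  unfold G8
  rw [Subgroup.closure_le]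
  rintro g ⟨r, -, t, rfl⟩
  exact xg_mem_O8 r t

/-- The diagonal matrix `diag(a, b, c, d, a⁻¹, b⁻¹, c⁻¹, d⁻¹)` as an element of `GL_8(F)`. -/
def dg (a b c d : Fˣ) : GL (Fin 8) F :=
  ⟨Matrix.diagonal ![(a : F), (b : F), (c : F), (d : F), ((a⁻¹ : Fˣ) : F), ((b⁻¹ : Fˣ) : F),
      ((c⁻¹ : Fˣ) : F), ((d⁻¹ : Fˣ) : F)],
    Matrix.diagonal ![((a⁻¹ : Fˣ) : F), ((b⁻¹ : Fˣ) : F), ((c⁻¹ : Fˣ) : F), ((d⁻¹ : Fˣ) : F), (a : F), (b : F),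
      (c : F), (d : F)],
    by
      rw [Matrix.diagonal_mul_diagonal, ← Matrix.diagonal_one]
      congr 1
      funext i
      fin_cases i <;> simp,
    by
      rw [Matrix.diagonal_mul_diagonal, ← Matrix.diagonal_one]
      congr 1
      funext i
      fin_cases i <;> simp⟩

theorem dg_val (a b c d : Fˣ) : ((dg a b c d : GL (Fin 8) F) : Matrix (Fin 8) (Fin 8) F)
    = Matrix.diagonal ![(a : F), (b : F), (c : F), (d : F), ((a⁻¹ : Fˣ) : F), ((b⁻¹ : Fˣ) : F),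
      ((c⁻¹ : Fˣ) : F), ((d⁻¹ : Fˣ) : F)] := rfl

theorem dg_mulVec (a b c d : Fˣ) (v : Fin 8 → F) :
    ((dg a b c d : GL (Fin 8) F) : Matrix (Fin 8) (Fin 8) F) *ᵥ v
      = ![(a : F) * v 0, (b : F) * v 1, (c : F) * v 2, (d : F) * v 3, ((a⁻¹ : Fˣ) : F) * v 4,
          ((b⁻¹ : Fˣ) : F) * v 5, ((c⁻¹ : Fˣ) : F) * v 6, ((d⁻¹ : Fˣ) : F) * v 7] := by
  rw [dg_val]
  funext i
  rw [Matrix.mulVec_diagonal]
  fin_cases i <;> rfl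

theorem dg_mem_O8 (a b c d : Fˣ) : dg a b c d ∈ O8 F := by
  intro v
  rw [dg_mulVec]
  simp only [Q8, Matrix.cons_val]
  have ha : (a : F) * ((a⁻¹ : Fˣ) : F) = 1 := by rw [← Units.val_mul, mul_inv_cancel, Units.val_one]
  have hb : (b : F) * ((b⁻¹ : Fˣ) : F) = 1 := by rw [← Units.val_mul, mul_inv_cancel, Units.val_one]
  have hc : (c : F) * ((c⁻¹ : Fˣ) : F) = 1 := by rw [← Units.val_mul, mul_inv_cancel, Units.val_one]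
  have hd : (d : F) * ((d⁻¹ : Fˣ) : F) = 1 := by rw [← Units.val_mul, mul_inv_cancel, Units.val_one]
  calc (a : F) * v 0 * (((a⁻¹ : Fˣ) : F) * v 4) + (b : F) * v 1 * (((b⁻¹ : Fˣ) : F) * v 5)
        + (c : F) * v 2 * (((c⁻¹ : Fˣ) : F) * v 6) + (d : F) * v 3 * (((d⁻¹ : Fˣ) : F) * v 7)
      = ((a : F) * ((a⁻¹ : Fˣ) : F)) * (v 0 * v 4) + ((b : F) * ((b⁻¹ : Fˣ) : F)) * (v 1 * v 5)
        + ((c : F) * ((c⁻¹ : Fˣ) : F)) * (v 2 * v 6) + ((d : F) * ((d⁻¹ : Fˣ) : F)) * (v 3 * v 7) := by ring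
    _ = v 0 * v 4 + v 1 * v 5 + v 2 * v 6 + v 3 * v 7 := by rw [ha, hb, hc, hd]; ring

theorem dg_mul (a b c d a' b' c' d' : Fˣ) :
    dg a b c d * dg a' b' c' d' = dg (a * a') (b * b') (c * c') (d * d') := by
  apply Units.ext
  rw [Units.val_mul, dg_val, dg_val, dg_val, Matrix.diagonal_mul_diagonal]
  congr 1
  funext i
  fin_cases i <;> simp [mul_comm]

theorem dg_one : dg (1 : Fˣ) 1 1 1 = 1 := by
  apply Units.ext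
  rw [dg_val]
  have h : (![((1 : Fˣ) : F), ((1 : Fˣ) : F), ((1 : Fˣ) : F), ((1 : Fˣ) : F), (((1 : Fˣ)⁻¹ : Fˣ) : F),
      (((1 : Fˣ)⁻¹ : Fˣ) : F), (((1 : Fˣ)⁻¹ : Fˣ) : F), (((1 : Fˣ)⁻¹ : Fˣ) : F)] : Fin 8 → F) = fun _ => 1 := by
    funext i
    fin_cases i <;> simp
  rw [h, Matrix.diagonal_one]
  rfl

theorem dg_inv (a b c d : Fˣ) : (dg a b c d)⁻¹ = dg a⁻¹ b⁻¹ c⁻¹ d⁻¹ := by
  apply inv_eq_of_mul_eq_one_right
  rw [dg_mul, mul_inv_cancel, mul_inv_cancel, mul_inv_cancel, mul_inv_cancel, dg_one]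

/-- The matrix swapping `e4` and `f4` (coordinates 3 and 7). -/
def swm : Matrix (Fin 8) (Fin 8) F :=
  !![1, 0, 0, 0, 0, 0, 0, 0; 0, 1, 0, 0, 0, 0, 0, 0; 0, 0, 1, 0, 0, 0, 0, 0; 0, 0, 0, 0, 0, 0, 0, 1;
     0, 0, 0, 0, 1, 0, 0, 0; 0, 0, 0, 0, 0, 1, 0, 0; 0, 0, 0, 0, 0, 0, 1, 0; 0, 0, 0, 1, 0, 0, 0, 0]

theorem swm_mulVec (v : Fin 8 → F) : (swm : Matrix (Fin 8) (Fin 8) F) *ᵥ v = ![v 0, v 1, v 2, v 7, v 4, v 5, v 6, v 3] := by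
  funext i; fin_cases i <;> simp [swm, Matrix.mulVec, dotProduct, Fin.sum_univ_eight]

theorem swm_mul_self : (swm : Matrix (Fin 8) (Fin 8) F) * swm = 1 := by
  apply mat_ext_mulVec
  intro v
  rw [← Matrix.mulVec_mulVec, swm_mulVec, swm_mulVec, Matrix.one_mulVec]
  funext i; fin_cases i <;> simp

/-- The isometry swapping `e4` and `f4`, as an element of `GL_8(F)`; it is its own inverse. -/
def sw : GL (Fin 8) F := ⟨swm, swm, swm_mul_self, swm_mul_self⟩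

theorem sw_val : ((sw : GL (Fin 8) F) : Matrix (Fin 8) (Fin 8) F) = swm := rfl

theorem sw_mulVec (v : Fin 8 → F) :
    ((sw : GL (Fin 8) F) : Matrix (Fin 8) (Fin 8) F) *ᵥ v = ![v 0, v 1, v 2, v 7, v 4, v 5, v 6, v 3] :=
  swm_mulVec v

theorem sw_mul_self : (sw : GL (Fin 8) F) * sw = 1 := by
  apply Units.ext
  rw [Units.val_mul, sw_val, swm_mul_self, Units.val_one]

theorem sw_inv : (sw : GL (Fin 8) F)⁻¹ = sw := inv_eq_of_mul_eq_one_right sw_mul_self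

theorem sw_mem_O8 : (sw : GL (Fin 8) F) ∈ O8 F := by
  intro v
  rw [sw_mulVec]
  simp only [Q8, Matrix.cons_val]
  ring

/-- `sw` commutes with the diagonal elements `diag(a, b, c, 1, a⁻¹, b⁻¹, c⁻¹, 1)`. -/
theorem dg_sw_comm (a b c : Fˣ) : dg a b c 1 * (sw : GL (Fin 8) F) = sw * dg a b c 1 := by
  apply Units.ext
  apply mat_ext_mulVec
  intro v
  rw [Units.val_mul, Units.val_mul, ← Matrix.mulVec_mulVec, ← Matrix.mulVec_mulVec, sw_mulVec, dg_mulVec,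
    dg_mulVec, sw_mulVec]
  funext i; fin_cases i <;> simp

end Cfsg.Agent.Helper17.D4
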