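-- helper17: Steinberg's relations (R3) for the explicit root elements of O_8^+ (S1082); machine generated.
import Cfsg.Agent.Helper17.D4Defs

set_option autoImplicit false
set_option linter.unusedSimpArgs false
set_option linter.unnecessarySeqFocus false
open Matrix Cfsg Cfsg.Lie

namespace Cfsg.Agent.Helper17.D4

variable {F : Type*} [Field F]

/-- `h_r(t)`: the image of the word `hWord r t` (a diagonal matrix). -/
def hg (r : ℕ) (t : F) : GL (Fin 8) F :=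
  xg r t * (xg (23 - r) (-t⁻¹) * (xg r t * (xg r (-1) * (xg (23 - r) (-(-1 : F)⁻¹) * (xg r (-1) * 1)))))

theorem hg_mulVec_0 (t : F) (ht : t ≠ 0) (v : Fin 8 → F) :
    ((hg 0 t : GL (Fin 8) F) : Matrix (Fin 8) (Fin 8) F) *ᵥ v = ![t⁻¹ * v 0, t⁻¹ * v 1, v 2, v 3, t * v 4, t * v 5, v 6, v 7] := by
  simp only [hg, Units.val_mul, xg_val, Units.val_one, ← Matrix.mulVec_mulVec, Matrix.one_mulVec, Nat.reduceSub,
    xm_mulVec_0, xm_mulVec_23]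
  funext i; fin_cases i <;> simp <;> field_simp <;> ring
theorem hg_mulVec_1 (t : F) (ht : t ≠ 0) (v : Fin 8 → F) :
    ((hg 1 t : GL (Fin 8) F) : Matrix (Fin 8) (Fin 8) F) *ᵥ v = ![t⁻¹ * v 0, v 1, t⁻¹ * v 2, v 3, t * v 4, v 5, t * v 6, v 7] := by
  simp only [hg, Units.val_mul, xg_val, Units.val_one, ← Matrix.mulVec_mulVec, Matrix.one_mulVec, Nat.reduceSub,
    xm_mulVec_1, xm_mulVec_22]
  funext i; fin_cases i <;> simp <;> field_simp <;> ring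
theorem hg_mulVec_2 (t : F) (ht : t ≠ 0) (v : Fin 8 → F) :
    ((hg 2 t : GL (Fin 8) F) : Matrix (Fin 8) (Fin 8) F) *ᵥ v = ![t⁻¹ * v 0, v 1, v 2, t * v 3, t * v 4, v 5, v 6, t⁻¹ * v 7] := by
  simp only [hg, Units.val_mul, xg_val, Units.val_one, ← Matrix.mulVec_mulVec, Matrix.one_mulVec, Nat.reduceSub,
    xm_mulVec_2, xm_mulVec_21]
  funext i; fin_cases i <;> simp <;> field_simp <;> ring
theorem hg_mulVec_3 (t : F) (ht : t ≠ 0) (v : Fin 8 → F) :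
    ((hg 3 t : GL (Fin 8) F) : Matrix (Fin 8) (Fin 8) F) *ᵥ v = ![t⁻¹ * v 0, v 1, v 2, t⁻¹ * v 3, t * v 4, v 5, v 6, t * v 7] := by
  simp only [hg, Units.val_mul, xg_val, Units.val_one, ← Matrix.mulVec_mulVec, Matrix.one_mulVec, Nat.reduceSub,
    xm_mulVec_3, xm_mulVec_20]
  funext i; fin_cases i <;> simp <;> field_simp <;> ring
theorem hg_mulVec_4 (t : F) (ht : t ≠ 0) (v : Fin 8 → F) :
    ((hg 4 t : GL (Fin 8) F) : Matrix (Fin 8) (Fin 8) F) *ᵥ v = ![t⁻¹ * v 0, v 1, t * v 2, v 3, t * v 4, v 5, t⁻¹ * v 6, v 7] := by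
  simp only [hg, Units.val_mul, xg_val, Units.val_one, ← Matrix.mulVec_mulVec, Matrix.one_mulVec, Nat.reduceSub,
    xm_mulVec_4, xm_mulVec_19]
  funext i; fin_cases i <;> simp <;> field_simp <;> ring
theorem hg_mulVec_5 (t : F) (ht : t ≠ 0) (v : Fin 8 → F) :
    ((hg 5 t : GL (Fin 8) F) : Matrix (Fin 8) (Fin 8) F) *ᵥ v = ![t⁻¹ * v 0, t * v 1, v 2, v 3, t * v 4, t⁻¹ * v 5, v 6, v 7] := by
  simp only [hg, Units.val_mul, xg_val, Units.val_one, ← Matrix.mulVec_mulVec, Matrix.one_mulVec, Nat.reduceSub,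
    xm_mulVec_5, xm_mulVec_18]
  funext i; fin_cases i <;> simp <;> field_simp <;> ring
theorem hg_mulVec_6 (t : F) (ht : t ≠ 0) (v : Fin 8 → F) :
    ((hg 6 t : GL (Fin 8) F) : Matrix (Fin 8) (Fin 8) F) *ᵥ v = ![v 0, t⁻¹ * v 1, t⁻¹ * v 2, v 3, v 4, t * v 5, t * v 6, v 7] := by
  simp only [hg, Units.val_mul, xg_val, Units.val_one, ← Matrix.mulVec_mulVec, Matrix.one_mulVec, Nat.reduceSub,
    xm_mulVec_6, xm_mulVec_17]
  funext i; fin_cases i <;> simp <;> field_simp <;> ring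
theorem hg_mulVec_7 (t : F) (ht : t ≠ 0) (v : Fin 8 → F) :
    ((hg 7 t : GL (Fin 8) F) : Matrix (Fin 8) (Fin 8) F) *ᵥ v = ![v 0, t⁻¹ * v 1, v 2, t * v 3, v 4, t * v 5, v 6, t⁻¹ * v 7] := by
  simp only [hg, Units.val_mul, xg_val, Units.val_one, ← Matrix.mulVec_mulVec, Matrix.one_mulVec, Nat.reduceSub,
    xm_mulVec_7, xm_mulVec_16]
  funext i; fin_cases i <;> simp <;> field_simp <;> ring
theorem hg_mulVec_8 (t : F) (ht : t ≠ 0) (v : Fin 8 → F) :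
    ((hg 8 t : GL (Fin 8) F) : Matrix (Fin 8) (Fin 8) F) *ᵥ v = ![v 0, t⁻¹ * v 1, v 2, t⁻¹ * v 3, v 4, t * v 5, v 6, t * v 7] := by
  simp only [hg, Units.val_mul, xg_val, Units.val_one, ← Matrix.mulVec_mulVec, Matrix.one_mulVec, Nat.reduceSub,
    xm_mulVec_8, xm_mulVec_15]
  funext i; fin_cases i <;> simp <;> field_simp <;> ring
theorem hg_mulVec_9 (t : F) (ht : t ≠ 0) (v : Fin 8 → F) :
    ((hg 9 t : GL (Fin 8) F) : Matrix (Fin 8) (Fin 8) F) *ᵥ v = ![v 0, t⁻¹ * v 1, t * v 2, v 3, v 4, t * v 5, t⁻¹ * v 6, v 7] := by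
  simp only [hg, Units.val_mul, xg_val, Units.val_one, ← Matrix.mulVec_mulVec, Matrix.one_mulVec, Nat.reduceSub,
    xm_mulVec_9, xm_mulVec_14]
  funext i; fin_cases i <;> simp <;> field_simp <;> ring
theorem hg_mulVec_10 (t : F) (ht : t ≠ 0) (v : Fin 8 → F) :
    ((hg 10 t : GL (Fin 8) F) : Matrix (Fin 8) (Fin 8) F) *ᵥ v = ![v 0, v 1, t⁻¹ * v 2, t * v 3, v 4, v 5, t * v 6, t⁻¹ * v 7] := by
  simp only [hg, Units.val_mul, xg_val, Units.val_one, ← Matrix.mulVec_mulVec, Matrix.one_mulVec, Nat.reduceSub,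
    xm_mulVec_10, xm_mulVec_13]
  funext i; fin_cases i <;> simp <;> field_simp <;> ring
theorem hg_mulVec_11 (t : F) (ht : t ≠ 0) (v : Fin 8 → F) :
    ((hg 11 t : GL (Fin 8) F) : Matrix (Fin 8) (Fin 8) F) *ᵥ v = ![v 0, v 1, t⁻¹ * v 2, t⁻¹ * v 3, v 4, v 5, t * v 6, t * v 7] := by
  simp only [hg, Units.val_mul, xg_val, Units.val_one, ← Matrix.mulVec_mulVec, Matrix.one_mulVec, Nat.reduceSub,
    xm_mulVec_11, xm_mulVec_12]
  funext i; fin_cases i <;> simp <;> field_simp <;> ring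
theorem hg_mulVec_12 (t : F) (ht : t ≠ 0) (v : Fin 8 → F) :
    ((hg 12 t : GL (Fin 8) F) : Matrix (Fin 8) (Fin 8) F) *ᵥ v = ![v 0, v 1, t * v 2, t * v 3, v 4, v 5, t⁻¹ * v 6, t⁻¹ * v 7] := by
  simp only [hg, Units.val_mul, xg_val, Units.val_one, ← Matrix.mulVec_mulVec, Matrix.one_mulVec, Nat.reduceSub,
    xm_mulVec_12, xm_mulVec_11]
  funext i; fin_cases i <;> simp <;> field_simp <;> ring
theorem hg_mulVec_13 (t : F) (ht : t ≠ 0) (v : Fin 8 → F) :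
    ((hg 13 t : GL (Fin 8) F) : Matrix (Fin 8) (Fin 8) F) *ᵥ v = ![v 0, v 1, t * v 2, t⁻¹ * v 3, v 4, v 5, t⁻¹ * v 6, t * v 7] := by
  simp only [hg, Units.val_mul, xg_val, Units.val_one, ← Matrix.mulVec_mulVec, Matrix.one_mulVec, Nat.reduceSub,
    xm_mulVec_13, xm_mulVec_10]
  funext i; fin_cases i <;> simp <;> field_simp <;> ring
theorem hg_mulVec_14 (t : F) (ht : t ≠ 0) (v : Fin 8 → F) :
    ((hg 14 t : GL (Fin 8) F) : Matrix (Fin 8) (Fin 8) F) *ᵥ v = ![v 0, t * v 1, t⁻¹ * v 2, v 3, v 4, t⁻¹ * v 5, t * v 6, v 7] := by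
  simp only [hg, Units.val_mul, xg_val, Units.val_one, ← Matrix.mulVec_mulVec, Matrix.one_mulVec, Nat.reduceSub,
    xm_mulVec_14, xm_mulVec_9]
  funext i; fin_cases i <;> simp <;> field_simp <;> ring
theorem hg_mulVec_15 (t : F) (ht : t ≠ 0) (v : Fin 8 → F) :
    ((hg 15 t : GL (Fin 8) F) : Matrix (Fin 8) (Fin 8) F) *ᵥ v = ![v 0, t * v 1, v 2, t * v 3, v 4, t⁻¹ * v 5, v 6, t⁻¹ * v 7] := by
  simp only [hg, Units.val_mul, xg_val, Units.val_one, ← Matrix.mulVec_mulVec, Matrix.one_mulVec, Nat.reduceSub,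
    xm_mulVec_15, xm_mulVec_8]
  funext i; fin_cases i <;> simp <;> field_simp <;> ring
theorem hg_mulVec_16 (t : F) (ht : t ≠ 0) (v : Fin 8 → F) :
    ((hg 16 t : GL (Fin 8) F) : Matrix (Fin 8) (Fin 8) F) *ᵥ v = ![v 0, t * v 1, v 2, t⁻¹ * v 3, v 4, t⁻¹ * v 5, v 6, t * v 7] := by
  simp only [hg, Units.val_mul, xg_val, Units.val_one, ← Matrix.mulVec_mulVec, Matrix.one_mulVec, Nat.reduceSub,
    xm_mulVec_16, xm_mulVec_7]
  funext i; fin_cases i <;> simp <;> field_simp <;> ring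
theorem hg_mulVec_17 (t : F) (ht : t ≠ 0) (v : Fin 8 → F) :
    ((hg 17 t : GL (Fin 8) F) : Matrix (Fin 8) (Fin 8) F) *ᵥ v = ![v 0, t * v 1, t * v 2, v 3, v 4, t⁻¹ * v 5, t⁻¹ * v 6, v 7] := by
  simp only [hg, Units.val_mul, xg_val, Units.val_one, ← Matrix.mulVec_mulVec, Matrix.one_mulVec, Nat.reduceSub,
    xm_mulVec_17, xm_mulVec_6]
  funext i; fin_cases i <;> simp <;> field_simp <;> ring
theorem hg_mulVec_18 (t : F) (ht : t ≠ 0) (v : Fin 8 → F) :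
    ((hg 18 t : GL (Fin 8) F) : Matrix (Fin 8) (Fin 8) F) *ᵥ v = ![t * v 0, t⁻¹ * v 1, v 2, v 3, t⁻¹ * v 4, t * v 5, v 6, v 7] := by
  simp only [hg, Units.val_mul, xg_val, Units.val_one, ← Matrix.mulVec_mulVec, Matrix.one_mulVec, Nat.reduceSub,
    xm_mulVec_18, xm_mulVec_5]
  funext i; fin_cases i <;> simp <;> field_simp <;> ring
theorem hg_mulVec_19 (t : F) (ht : t ≠ 0) (v : Fin 8 → F) :
    ((hg 19 t : GL (Fin 8) F) : Matrix (Fin 8) (Fin 8) F) *ᵥ v = ![t * v 0, v 1, t⁻¹ * v 2, v 3, t⁻¹ * v 4, v 5, t * v 6, v 7] := by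
  simp only [hg, Units.val_mul, xg_val, Units.val_one, ← Matrix.mulVec_mulVec, Matrix.one_mulVec, Nat.reduceSub,
    xm_mulVec_19, xm_mulVec_4]
  funext i; fin_cases i <;> simp <;> field_simp <;> ring
theorem hg_mulVec_20 (t : F) (ht : t ≠ 0) (v : Fin 8 → F) :
    ((hg 20 t : GL (Fin 8) F) : Matrix (Fin 8) (Fin 8) F) *ᵥ v = ![t * v 0, v 1, v 2, t * v 3, t⁻¹ * v 4, v 5, v 6, t⁻¹ * v 7] := by
  simp only [hg, Units.val_mul, xg_val, Units.val_one, ← Matrix.mulVec_mulVec, Matrix.one_mulVec, Nat.reduceSub,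
    xm_mulVec_20, xm_mulVec_3]
  funext i; fin_cases i <;> simp <;> field_simp <;> ring
theorem hg_mulVec_21 (t : F) (ht : t ≠ 0) (v : Fin 8 → F) :
    ((hg 21 t : GL (Fin 8) F) : Matrix (Fin 8) (Fin 8) F) *ᵥ v = ![t * v 0, v 1, v 2, t⁻¹ * v 3, t⁻¹ * v 4, v 5, v 6, t * v 7] := by
  simp only [hg, Units.val_mul, xg_val, Units.val_one, ← Matrix.mulVec_mulVec, Matrix.one_mulVec, Nat.reduceSub,
    xm_mulVec_21, xm_mulVec_2]
  funext i; fin_cases i <;> simp <;> field_simp <;> ring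
theorem hg_mulVec_22 (t : F) (ht : t ≠ 0) (v : Fin 8 → F) :
    ((hg 22 t : GL (Fin 8) F) : Matrix (Fin 8) (Fin 8) F) *ᵥ v = ![t * v 0, v 1, t * v 2, v 3, t⁻¹ * v 4, v 5, t⁻¹ * v 6, v 7] := by
  simp only [hg, Units.val_mul, xg_val, Units.val_one, ← Matrix.mulVec_mulVec, Matrix.one_mulVec, Nat.reduceSub,
    xm_mulVec_22, xm_mulVec_1]
  funext i; fin_cases i <;> simp <;> field_simp <;> ring
theorem hg_mulVec_23 (t : F) (ht : t ≠ 0) (v : Fin 8 → F) :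
    ((hg 23 t : GL (Fin 8) F) : Matrix (Fin 8) (Fin 8) F) *ᵥ v = ![t * v 0, t * v 1, v 2, v 3, t⁻¹ * v 4, t⁻¹ * v 5, v 6, v 7] := by
  simp only [hg, Units.val_mul, xg_val, Units.val_one, ← Matrix.mulVec_mulVec, Matrix.one_mulVec, Nat.reduceSub,
    xm_mulVec_23, xm_mulVec_0]
  funext i; fin_cases i <;> simp <;> field_simp <;> ring

/-- Relation (R3) for the explicit root elements. -/
theorem hg_mul (r : ℕ) (hr : r < 24) (t₁ t₂ : F) (h₁ : t₁ ≠ 0) (h₂ : t₂ ≠ 0) : hg r t₁ * hg r t₂ = hg r (t₁ * t₂) := by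
  apply Units.ext
  rw [Units.val_mul]
  apply mat_ext_mulVec
  intro v
  rw [← Matrix.mulVec_mulVec]
  interval_cases r
  · rw [hg_mulVec_0 t₂ h₂, hg_mulVec_0 t₁ h₁, hg_mulVec_0 (t₁ * t₂) (mul_ne_zero h₁ h₂)]
    funext i; fin_cases i <;> simp [mul_inv] <;> ring
  · rw [hg_mulVec_1 t₂ h₂, hg_mulVec_1 t₁ h₁, hg_mulVec_1 (t₁ * t₂) (mul_ne_zero h₁ h₂)]
    funext i; fin_cases i <;> simp [mul_inv] <;> ring
  · rw [hg_mulVec_2 t₂ h₂, hg_mulVec_2 t₁ h₁, hg_mulVec_2 (t₁ * t₂) (mul_ne_zero h₁ h₂)]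
    funext i; fin_cases i <;> simp [mul_inv] <;> ring
  · rw [hg_mulVec_3 t₂ h₂, hg_mulVec_3 t₁ h₁, hg_mulVec_3 (t₁ * t₂) (mul_ne_zero h₁ h₂)]
    funext i; fin_cases i <;> simp [mul_inv] <;> ring
  · rw [hg_mulVec_4 t₂ h₂, hg_mulVec_4 t₁ h₁, hg_mulVec_4 (t₁ * t₂) (mul_ne_zero h₁ h₂)]
    funext i; fin_cases i <;> simp [mul_inv] <;> ring
  · rw [hg_mulVec_5 t₂ h₂, hg_mulVec_5 t₁ h₁, hg_mulVec_5 (t₁ * t₂) (mul_ne_zero h₁ h₂)]
    funext i; fin_cases i <;> simp [mul_inv] <;> ring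
  · rw [hg_mulVec_6 t₂ h₂, hg_mulVec_6 t₁ h₁, hg_mulVec_6 (t₁ * t₂) (mul_ne_zero h₁ h₂)]
    funext i; fin_cases i <;> simp [mul_inv] <;> ring
  · rw [hg_mulVec_7 t₂ h₂, hg_mulVec_7 t₁ h₁, hg_mulVec_7 (t₁ * t₂) (mul_ne_zero h₁ h₂)]
    funext i; fin_cases i <;> simp [mul_inv] <;> ring
  · rw [hg_mulVec_8 t₂ h₂, hg_mulVec_8 t₁ h₁, hg_mulVec_8 (t₁ * t₂) (mul_ne_zero h₁ h₂)]
    funext i; fin_cases i <;> simp [mul_inv] <;> ring
  · rw [hg_mulVec_9 t₂ h₂, hg_mulVec_9 t₁ h₁, hg_mulVec_9 (t₁ * t₂) (mul_ne_zero h₁ h₂)]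
    funext i; fin_cases i <;> simp [mul_inv] <;> ring
  · rw [hg_mulVec_10 t₂ h₂, hg_mulVec_10 t₁ h₁, hg_mulVec_10 (t₁ * t₂) (mul_ne_zero h₁ h₂)]
    funext i; fin_cases i <;> simp [mul_inv] <;> ring
  · rw [hg_mulVec_11 t₂ h₂, hg_mulVec_11 t₁ h₁, hg_mulVec_11 (t₁ * t₂) (mul_ne_zero h₁ h₂)]
    funext i; fin_cases i <;> simp [mul_inv] <;> ring
  · rw [hg_mulVec_12 t₂ h₂, hg_mulVec_12 t₁ h₁, hg_mulVec_12 (t₁ * t₂) (mul_ne_zero h₁ h₂)]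
    funext i; fin_cases i <;> simp [mul_inv] <;> ring
  · rw [hg_mulVec_13 t₂ h₂, hg_mulVec_13 t₁ h₁, hg_mulVec_13 (t₁ * t₂) (mul_ne_zero h₁ h₂)]
    funext i; fin_cases i <;> simp [mul_inv] <;> ring
  · rw [hg_mulVec_14 t₂ h₂, hg_mulVec_14 t₁ h₁, hg_mulVec_14 (t₁ * t₂) (mul_ne_zero h₁ h₂)]
    funext i; fin_cases i <;> simp [mul_inv] <;> ring
  · rw [hg_mulVec_15 t₂ h₂, hg_mulVec_15 t₁ h₁, hg_mulVec_15 (t₁ * t₂) (mul_ne_zero h₁ h₂)]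
    funext i; fin_cases i <;> simp [mul_inv] <;> ring
  · rw [hg_mulVec_16 t₂ h₂, hg_mulVec_16 t₁ h₁, hg_mulVec_16 (t₁ * t₂) (mul_ne_zero h₁ h₂)]
    funext i; fin_cases i <;> simp [mul_inv] <;> ring
  · rw [hg_mulVec_17 t₂ h₂, hg_mulVec_17 t₁ h₁, hg_mulVec_17 (t₁ * t₂) (mul_ne_zero h₁ h₂)]
    funext i; fin_cases i <;> simp [mul_inv] <;> ring
  · rw [hg_mulVec_18 t₂ h₂, hg_mulVec_18 t₁ h₁, hg_mulVec_18 (t₁ * t₂) (mul_ne_zero h₁ h₂)]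
    funext i; fin_cases i <;> simp [mul_inv] <;> ring
  · rw [hg_mulVec_19 t₂ h₂, hg_mulVec_19 t₁ h₁, hg_mulVec_19 (t₁ * t₂) (mul_ne_zero h₁ h₂)]
    funext i; fin_cases i <;> simp [mul_inv] <;> ring
  · rw [hg_mulVec_20 t₂ h₂, hg_mulVec_20 t₁ h₁, hg_mulVec_20 (t₁ * t₂) (mul_ne_zero h₁ h₂)]
    funext i; fin_cases i <;> simp [mul_inv] <;> ring
  · rw [hg_mulVec_21 t₂ h₂, hg_mulVec_21 t₁ h₁, hg_mulVec_21 (t₁ * t₂) (mul_ne_zero h₁ h₂)]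
    funext i; fin_cases i <;> simp [mul_inv] <;> ring
  · rw [hg_mulVec_22 t₂ h₂, hg_mulVec_22 t₁ h₁, hg_mulVec_22 (t₁ * t₂) (mul_ne_zero h₁ h₂)]
    funext i; fin_cases i <;> simp [mul_inv] <;> ring
  · rw [hg_mulVec_23 t₂ h₂, hg_mulVec_23 t₁ h₁, hg_mulVec_23 (t₁ * t₂) (mul_ne_zero h₁ h₂)]
    funext i; fin_cases i <;> simp [mul_inv] <;> ring

end Cfsg.Agent.Helper17.D4
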