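/-
helper17: the checks on the table `e6WT` (by kernel evaluation) and their consequences: `e6_cwOK`, the table is
a system of representatives of the elements of the Weyl group of `E₆` fixed by the flip, in the sense of
helper18's `CwOK`; for each entry the set of positive roots made negative, with its orbits (`e6W_hS`,
`e6W_orbOK`, `e6W_closedS`, `e6W_lenEq`); `e6W_poly`, the sum of the `q ^ ℓ(w)`.
-/
import Cfsg.Agent.Helper17.E6WDefs

set_option autoImplicit false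
set_option maxRecDepth 1000000

namespace Cfsg.Agent.Helper17

open Cfsg Cfsg.Lie Cfsg.Agent.Helper36 Cfsg.Agent.Helper18

/-! ### The checks -/

theorem e6W_length : e6WT.length = 1152 := by decide +kernel

theorem e6W_mem : ∀ x ∈ e6WT, ∀ b ∈ x.1, b ∈ [[1], [3], [0, 5], [2, 4]] := by decide +kernel

theorem e6W_actChk : wkAll wkActOK e6WT = true := by decide +kernel

theorem e6W_stepChk : wkAll wkStepOK e6WT = true := by decide +kernel

theorem e6W_sortedChk : wkSortedGo e6WT 0 = true := by decide +kernel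

theorem e6W_stabChk : wkAll wkStabOK e6WT = true := by decide +kernel

theorem e6W_sumsChk : wkAll wkSumsOK e6WT = true := by decide +kernel

theorem e6W_lenChk : wkAll wkLenOK e6WT = true := by decide +kernel

theorem e6_sums_chk : ∀ r ∈ e6Pos, ∀ s ∈ e6Pos, r < s → ∀ c ∈ chevE6.commTerms r s,
    (r, s, c.1) ∈ e6WSums := by decide +kernel

theorem e6_neg_iff : ∀ r < 72, chevE6.IsNegRoot r ↔ r < 36 := by decide +kernel

theorem e6W_lenLt : ∀ k ∈ e6WT.map (fun x => x.2.2.2.2.2.2), k < 37 := by decide +kernel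

theorem e6W_cnt : (e6WT.map fun x => x.2.2.2.2.2.2).count 0 = 1 ∧
    (e6WT.map fun x => x.2.2.2.2.2.2).count 1 = 2 ∧
    (e6WT.map fun x => x.2.2.2.2.2.2).count 2 = 4 ∧
    (e6WT.map fun x => x.2.2.2.2.2.2).count 3 = 6 ∧
    (e6WT.map fun x => x.2.2.2.2.2.2).count 4 = 9 ∧
    (e6WT.map fun x => x.2.2.2.2.2.2).count 5 = 13 ∧
    (e6WT.map fun x => x.2.2.2.2.2.2).count 6 = 17 ∧
    (e6WT.map fun x => x.2.2.2.2.2.2).count 7 = 22 ∧
    (e6WT.map fun x => x.2.2.2.2.2.2).count 8 = 26 ∧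
    (e6WT.map fun x => x.2.2.2.2.2.2).count 9 = 32 ∧
    (e6WT.map fun x => x.2.2.2.2.2.2).count 10 = 37 ∧
    (e6WT.map fun x => x.2.2.2.2.2.2).count 11 = 43 ∧
    (e6WT.map fun x => x.2.2.2.2.2.2).count 12 = 47 ∧
    (e6WT.map fun x => x.2.2.2.2.2.2).count 13 = 51 ∧
    (e6WT.map fun x => x.2.2.2.2.2.2).count 14 = 55 ∧
    (e6WT.map fun x => x.2.2.2.2.2.2).count 15 = 58 ∧
    (e6WT.map fun x => x.2.2.2.2.2.2).count 16 = 61 ∧
    (e6WT.map fun x => x.2.2.2.2.2.2).count 17 = 61 ∧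
    (e6WT.map fun x => x.2.2.2.2.2.2).count 18 = 62 ∧
    (e6WT.map fun x => x.2.2.2.2.2.2).count 19 = 61 ∧
    (e6WT.map fun x => x.2.2.2.2.2.2).count 20 = 61 ∧
    (e6WT.map fun x => x.2.2.2.2.2.2).count 21 = 58 ∧
    (e6WT.map fun x => x.2.2.2.2.2.2).count 22 = 55 ∧
    (e6WT.map fun x => x.2.2.2.2.2.2).count 23 = 51 ∧
    (e6WT.map fun x => x.2.2.2.2.2.2).count 24 = 47 ∧
    (e6WT.map fun x => x.2.2.2.2.2.2).count 25 = 43 ∧
    (e6WT.map fun x => x.2.2.2.2.2.2).count 26 = 37 ∧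
    (e6WT.map fun x => x.2.2.2.2.2.2).count 27 = 32 ∧
    (e6WT.map fun x => x.2.2.2.2.2.2).count 28 = 26 ∧
    (e6WT.map fun x => x.2.2.2.2.2.2).count 29 = 22 ∧
    (e6WT.map fun x => x.2.2.2.2.2.2).count 30 = 17 ∧
    (e6WT.map fun x => x.2.2.2.2.2.2).count 31 = 13 ∧
    (e6WT.map fun x => x.2.2.2.2.2.2).count 32 = 9 ∧
    (e6WT.map fun x => x.2.2.2.2.2.2).count 33 = 6 ∧
    (e6WT.map fun x => x.2.2.2.2.2.2).count 34 = 4 ∧
    (e6WT.map fun x => x.2.2.2.2.2.2).count 35 = 2 ∧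
    (e6WT.map fun x => x.2.2.2.2.2.2).count 36 = 1 := by
  decide +kernel

/-! ### What the checks mean -/

/-- The representatives: the words of the table. -/
def e6Cw : List (List (List ℕ)) := e6WT.map fun x => x.1

theorem e6W_nil : [] ∈ e6Cw := by decide +kernel

theorem e6W_blk_lt : ∀ b ∈ [[1], [3], [0, 5], [2, 4]], ∀ i ∈ b, i < chevE6.rank := by decide

theorem e6W_blk_mem : ∀ b ∈ [[1], [3], [0, 5], [2, 4]], b ∈ e6Blocks := by decide

theorem e6W_valid {x : WEnt} (hx : x ∈ e6WT) : ∀ b ∈ x.1, ∀ i ∈ b, i < chevE6.rank :=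
  fun b hb => e6W_blk_lt b (e6W_mem x hx b hb)

theorem e6W_P {x : WEnt} (hx : x ∈ e6WT) : x.2.1 = wkPack (wkAct x.1) 72 :=
  (beq_iff _ _).mp ((wkAll_iff _ _).mp e6W_actChk x hx)

/-- The packed action of an entry is the action of its word. -/
theorem e6W_wW {x : WEnt} (hx : x ∈ e6WT) {r : ℕ} (hr : r < 72) :
    wW chevE6 x.1.flatten r = wkDig x.2.1 r ∧ wkDig x.2.1 r < 72 := by
  have h := fun i (hi : i < 72) => wkAct_spec x.1 (e6W_valid hx) i hi
  have e : wkDig x.2.1 r = wkAct x.1 r := by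
    rw [e6W_P hx]
    exact wkDig_pack _ 72 (fun i hi => lt_trans (h i hi).2 (by norm_num)) r hr
  rw [e]
  exact ⟨(h r hr).1.symm, (h r hr).2⟩

theorem e6W_swap (s : ℕ) (hs : s < 72) : wW chevE6 [5, 0] s = wW chevE6 [0, 5] s ∧
    wW chevE6 [4, 2] s = wW chevE6 [2, 4] s := by
  have h1 := e6_blocksChk.comm [0, 5] (by simp [e6Blocks]) s (by rw [e6_nroots]; exact hs)
  have h2 := e6_blocksChk.comm [2, 4] (by simp [e6Blocks]) s (by rw [e6_nroots]; exact hs)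
  have e1 : [0, 5].map e6l = [5, 0] := by decide
  have e2 : [2, 4].map e6l = [4, 2] := by decide
  rw [e1] at h1
  rw [e2] at h2
  exact ⟨h1, h2⟩

theorem e6W_closed : ∀ b ∈ e6Blocks, ∀ bs ∈ e6Cw, ∃ bs' ∈ e6Cw,
    ∀ r < chevE6.nroots, wW chevE6 (b ++ bs.flatten) r = wW chevE6 bs'.flatten r := by
  intro b hb bs hbs
  obtain ⟨x, hx, rfl⟩ := List.mem_map.mp hbs
  have key : ∃ b' ∈ [[1], [3], [0, 5], [2, 4]], (∀ s < 72, wW chevE6 b s = wW chevE6 b' s) ∧
      ∃ j, wkStep b' x j = true := by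
    have h := (wkAll_iff _ _).mp e6W_stepChk x hx
    unfold wkStepOK at h
    simp only [Bool.and_eq_true] at h
    obtain ⟨h0, h1, h2, h3⟩ := h
    simp only [e6Blocks, List.mem_cons, List.not_mem_nil, or_false] at hb
    rcases hb with rfl | rfl | rfl | rfl | rfl | rfl
    · exact ⟨[1], by simp, fun _ _ => rfl, _, h0⟩
    · exact ⟨[3], by simp, fun _ _ => rfl, _, h1⟩
    · exact ⟨[0, 5], by simp, fun _ _ => rfl, _, h2⟩
    · exact ⟨[0, 5], by simp, fun s hs => (e6W_swap s hs).1, _, h2⟩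
    · exact ⟨[2, 4], by simp, fun _ _ => rfl, _, h3⟩
    · exact ⟨[2, 4], by simp, fun s hs => (e6W_swap s hs).2, _, h3⟩
  obtain ⟨b', hb', hbb', j, hj⟩ := key
  unfold wkStep at hj
  rw [Bool.and_eq_true, blt_iff, beq_iff] at hj
  obtain ⟨hj1, hj2⟩ := hj
  obtain ⟨y, hy, hyP⟩ := wkNth_mem e6WT j (by rw [e6W_length]; exact hj1)
  refine ⟨y.1, List.mem_map.mpr ⟨y, hy, rfl⟩, ?_⟩
  intro r hr
  have hr' : r < 72 := by rw [e6_nroots] at hr; exact hr
  obtain ⟨hx1, hx2⟩ := e6W_wW hx hr'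
  obtain ⟨hy1, -⟩ := e6W_wW hy hr'
  have hb'v : ∀ i ∈ b', i < chevE6.rank := e6W_blk_lt b' hb'
  rw [wW_append, hx1, hbb' _ hx2, hy1, ← hyP, hj2, wkDig_pack _ 72 (fun i _ => wkDig_lt _ _) r hr',
    (wkDig_blk b' hb'v _ hx2).1]

theorem e6W_pairwise : (e6WT.map fun x => x.2.1).Pairwise (· < ·) :=
  (wkSortedGo_spec e6WT 0 e6W_sortedChk).2

theorem e6W_nodup :
    (e6Cw.map fun bs => (List.range chevE6.nroots).map (wW chevE6 bs.flatten)).Nodup := by
  have h1 : (e6WT.map fun x => x.2.1).Nodup := e6W_pairwise.imp (fun h => ne_of_lt h)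
  have h2 : e6WT.Nodup := List.Nodup.of_map _ h1
  rw [e6Cw, List.map_map]
  refine List.Nodup.map_on ?_ h2
  intro x hx y hy hxy
  apply List.inj_on_of_nodup_map h1 hx hy
  show x.2.1 = y.2.1
  rw [e6W_P hx, e6W_P hy]
  apply wkPack_congr
  intro i hi
  rw [(wkAct_spec x.1 (e6W_valid hx) i hi).1, (wkAct_spec y.1 (e6W_valid hy) i hi).1]
  have hxy' : (List.range chevE6.nroots).map (wW chevE6 x.1.flatten) =
      (List.range chevE6.nroots).map (wW chevE6 y.1.flatten) := hxy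
  exact List.map_inj_left.mp hxy' i (List.mem_range.mpr (by rw [e6_nroots]; exact hi))

/-- The table is a system of representatives of the elements of the Weyl group fixed by the flip. -/
theorem e6_cwOK : CwOK chevE6 e6Blocks e6Cw where
  mem := by
    intro bs hbs b hb
    obtain ⟨x, hx, rfl⟩ := List.mem_map.mp hbs
    exact e6W_blk_mem b (e6W_mem x hx b hb)
  lt := by decide
  nil := e6W_nil
  closed := e6W_closed
  nodup := e6W_nodup

/-! ### The positive roots made negative by an entry -/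

/-- The positive roots made negative by the packed action `P`. -/
noncomputable def wkS (P : ℕ) : List ℕ := e6Pos.filter (wkT P)

/-- The orbits of the flip on the positive roots made negative by the packed action `P`. -/
noncomputable def wkO (P : ℕ) : List (List ℕ) := e6PosOrbs.filter fun O => O.all (wkT P)

theorem e6W_hS {x : WEnt} (hx : x ∈ e6WT) (r : ℕ) :
    r ∈ wkS x.2.1 ↔ chevE6.IsPosRoot r ∧ chevE6.IsNegRoot (wW chevE6 x.1.flatten r) := by
  unfold wkS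
  rw [List.mem_filter, ← e6_posRoots, mem_posRoots]
  constructor
  · rintro ⟨h1, h2⟩
    have hr : r < 72 := by have := h1.1; rw [e6_nroots] at this; exact this
    obtain ⟨e1, e2⟩ := e6W_wW hx hr
    refine ⟨h1, ?_⟩
    rw [e1, e6_neg_iff _ e2]
    exact (blt_iff _ _).mp h2
  · rintro ⟨h1, h2⟩
    have hr : r < 72 := by have := h1.1; rw [e6_nroots] at this; exact this
    obtain ⟨e1, e2⟩ := e6W_wW hx hr
    rw [e1, e6_neg_iff _ e2] at h2
    exact ⟨h1, (blt_iff _ _).mpr h2⟩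

theorem e6W_orbOK {x : WEnt} (hx : x ∈ e6WT) : OrbOK chevE6 gautP_E6 2 (wkO x.2.1) (wkS x.2.1) :=
  orbOK_filter chevE6 gautP_E6 2 (wkT x.2.1) e6PosOrbs e6Pos e6Pos_orb
    (fun O hO => wkConst_spec _ O ((wkAll_iff _ _).mp ((wkAll_iff _ _).mp e6W_stabChk x hx) O hO))

theorem e6W_closedS {x : WEnt} (hx : x ∈ e6WT) : ∀ r ∈ wkS x.2.1, ∀ s ∈ wkS x.2.1, r < s →
    ∀ c ∈ chevE6.commTerms r s, c.1 ∈ wkS x.2.1 := by
  intro r hr s hs hrs c hc
  obtain ⟨hr1, hr2⟩ := List.mem_filter.mp hr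
  obtain ⟨hs1, hs2⟩ := List.mem_filter.mp hs
  refine List.mem_filter.mpr ⟨e6Pos_closed r hr1 s hs1 hrs c hc, ?_⟩
  have hmem := e6_sums_chk r hr1 s hs1 hrs c hc
  have h := (wkAll_iff _ _).mp ((wkAll_iff _ _).mp e6W_sumsChk x hx) _ hmem
  rw [hr2, hs2] at h
  simpa using h

theorem e6W_lenEq {x : WEnt} (hx : x ∈ e6WT) :
    ((wkO x.2.1).map List.length).sum = x.2.2.2.2.2.2 := by
  have h := (beq_iff _ _).mp ((wkAll_iff _ _).mp e6W_lenChk x hx)
  rw [wkLenT_eq] at h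
  exact h

/-! ### The sum of the `q ^ ℓ(w)` -/

theorem e6W_poly (q : ℕ) : (e6WT.map fun x => q ^ x.2.2.2.2.2.2).sum =
    1 + 2 * q + 4 * q ^ 2 + 6 * q ^ 3 + 9 * q ^ 4 + 13 * q ^ 5 + 17 * q ^ 6 + 22 * q ^ 7 + 26 * q ^ 8 + 32 * q ^ 9 + 37 * q ^ 10 + 43 * q ^ 11 + 47 * q ^ 12 + 51 * q ^ 13 + 55 * q ^ 14 + 58 * q ^ 15 + 61 * q ^ 16 + 61 * q ^ 17 + 62 * q ^ 18 + 61 * q ^ 19 + 61 * q ^ 20 + 58 * q ^ 21 + 55 * q ^ 22 + 51 * q ^ 23 + 47 * q ^ 24 + 43 * q ^ 25 + 37 * q ^ 26 + 32 * q ^ 27 + 26 * q ^ 28 + 22 * q ^ 29 + 17 * q ^ 30 + 13 * q ^ 31 + 9 * q ^ 32 + 6 * q ^ 33 + 4 * q ^ 34 + 2 * q ^ 35 + q ^ 36 := by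
  have e : (e6WT.map fun x => q ^ x.2.2.2.2.2.2) = (e6WT.map fun x => x.2.2.2.2.2.2).map (q ^ ·) := by
    rw [List.map_map]
    rfl
  obtain ⟨c0, c1, c2, c3, c4, c5, c6, c7, c8, c9, c10, c11, c12, c13, c14, c15, c16, c17, c18, c19, c20, c21, c22, c23, c24, c25, c26, c27, c28, c29, c30, c31, c32, c33, c34, c35, c36⟩ := e6W_cnt
  rw [e, sum_pow_count q 37 _ e6W_lenLt]
  simp only [Finset.sum_range_succ, Finset.sum_range_zero, c0, c1, c2, c3, c4, c5, c6, c7, c8, c9, c10, c11, c12, c13, c14, c15, c16, c17, c18, c19, c20, c21, c22, c23, c24, c25, c26, c27, c28, c29, c30, c31, c32, c33, c34, c35, c36]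
  ring

end Cfsg.Agent.Helper17
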