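import Mathlib
import Cfsg.Agent.Helper71.SODefs

/-!
# Helper17: piece ZB2 (`levi_lift`) of helper71's CALL S5843
(`Sp_2(q) ⊗ O_n(q)` maximal in `Sp_{2n}(q)`).
-/

set_option autoImplicit false

namespace Cfsg.Agent.Helper17.SOZB2

open Matrix Cfsg.Agent.Helper71.T4 Cfsg.Agent.Helper71.SO
open scoped Kronecker

variable {F : Type*} [Field F] {n : ℕ}

theorem zb2_bl_add_left (S : Matrix (Fin n) (Fin n) F) (x y z : Fin n → F) :
    bl S (x + y) z = bl S x z + bl S y z := by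
  simp [bl, add_dotProduct]

theorem zb2_bl_smul_left (S : Matrix (Fin n) (Fin n) F) (c : F) (x z : Fin n → F) :
    bl S (c • x) z = c * bl S x z := by
  simp [bl, smul_dotProduct]

theorem zb2_bl_add_right (S : Matrix (Fin n) (Fin n) F) (x y z : Fin n → F) :
    bl S x (y + z) = bl S x y + bl S x z := by
  simp [bl, mulVec_add, dotProduct_add]

theorem zb2_bl_smul_right (S : Matrix (Fin n) (Fin n) F) (c : F) (x z : Fin n → F) :
    bl S x (c • z) = c * bl S x z := by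
  simp [bl, mulVec_smul, dotProduct_smul]

theorem zb2_bl_sub_left (S : Matrix (Fin n) (Fin n) F) (x y z : Fin n → F) :
    bl S (x - y) z = bl S x z - bl S y z := by
  simp [bl, sub_dotProduct]

theorem zb2_bl_sub_right (S : Matrix (Fin n) (Fin n) F) (x y z : Fin n → F) :
    bl S x (y - z) = bl S x y - bl S x z := by
  simp [bl, mulVec_sub, dotProduct_sub]

theorem zb2_bl_symm (S : Matrix (Fin n) (Fin n) F) (hS : Sᵀ = S) (x y : Fin n → F) :
    bl S x y = bl S y x := by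
  unfold bl
  rw [dotProduct_mulVec, dotProduct_comm, ← mulVec_transpose, hS]

theorem zb2_vmv (S : Matrix (Fin n) (Fin n) F) (hS : Sᵀ = S) (a b x : Fin n → F) :
    vecMulVec a (S *ᵥ b) *ᵥ x = bl S b x • a := by
  have h : bl S b x = (S *ᵥ b) ⬝ᵥ x := by
    rw [zb2_bl_symm S hS, bl, dotProduct_comm]
  rw [h]
  generalize S *ᵥ b = c
  ext i
  simp only [Matrix.mulVec, dotProduct, vecMulVec_apply, Pi.smul_apply, smul_eq_mul,
    Finset.sum_mul]
  refine Finset.sum_congr rfl fun j _ => ?_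
  ring

theorem zb2_ext (M N : Matrix (Fin n) (Fin n) F)
    (h : ∀ x y : Fin n → F, x ⬝ᵥ M *ᵥ y = x ⬝ᵥ N *ᵥ y) : M = N := by
  ext i j
  have := h (Pi.single i 1) (Pi.single j 1)
  simpa using this

/-- Piece ZB2 of CALL S5843. -/
theorem levi_lift (hn : 3 ≤ n) (h2 : (2 : F) ≠ 0) (S : Matrix (Fin n) (Fin n) F) (hS : Sᵀ = S)
    (hdet : S.det ≠ 0) (u u₁ : Fin n → F) (hu : u ≠ 0) (huu : bl S u u = 0)
    (hu₁ : bl S u₁ u₁ = 0) (huu₁ : bl S u u₁ = 1)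
    (k : Matrix (Fin 2 × Fin n) (Fin 2 × Fin n) F)
    (A : Matrix (Fin 2) (Fin 2) F) (B₁ : Matrix (Fin n) (Fin n) F) (μ : F)
    (hAμ : A.det * μ = 1)
    (hk0 : ∀ a : Fin 2 → F, k *ᵥ pt a u = pt (μ • A *ᵥ a) u)
    (hk1 : ∀ y : Fin n → F, bl S u y = 0 → bl S u (B₁ *ᵥ y) = 0)
    (hk2 : ∀ y y' : Fin n → F, bl S u y = 0 → bl S u y' = 0 →
      bl S (B₁ *ᵥ y) (B₁ *ᵥ y') = μ * bl S y y')
    (hk3 : ∀ (a : Fin 2 → F) (y : Fin n → F), bl S u y = 0 → ∃ d : Fin 2 → F,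
      k *ᵥ pt a y = pt (A *ᵥ a) (B₁ *ᵥ y) + pt d u) :
    ∃ (B : Matrix (Fin n) (Fin n) F) (ρ : Matrix (Fin 2 × Fin n) (Fin 2 × Fin n) F),
      Bᵀ * S * B = μ • S ∧ k = (A ⊗ₖ B) * ρ ∧
      (∀ a : Fin 2 → F, ρ *ᵥ pt a u = pt a u) ∧
      (∀ (a : Fin 2 → F) (y : Fin n → F), bl S u y = 0 → ∃ a' : Fin 2 → F,
        ρ *ᵥ pt a y = pt a y + pt a' u) := by
  have hμ : μ ≠ 0 := by
    rintro rfl
    simp at hAμ
  have hA : A.det ≠ 0 := by
    intro h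
    rw [h] at hAμ
    simp at hAμ
  have hu₁u : bl S u₁ u = 1 := by
    rw [zb2_bl_symm S hS]
    exact huu₁
  -- the projection onto `{u, u₁}^⊥`
  set P : (Fin n → F) → (Fin n → F) := fun x => x - bl S u₁ x • u - bl S u x • u₁ with hP
  set π : Matrix (Fin n) (Fin n) F :=
    1 - vecMulVec u (S *ᵥ u₁) - vecMulVec u₁ (S *ᵥ u) with hπ
  have hπv : ∀ x, π *ᵥ x = P x := by
    intro x
    simp only [hπ, hP, Matrix.sub_mulVec, Matrix.one_mulVec, zb2_vmv S hS]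
  have hPu : ∀ x, bl S u (P x) = 0 := by
    intro x
    simp only [hP, zb2_bl_sub_right, zb2_bl_smul_right, huu, huu₁]
    ring
  have hPperp : ∀ z, bl S u z = 0 → P z = z - bl S u₁ z • u := by
    intro z hz
    simp only [hP, hz, zero_smul, sub_zero]
  set B : Matrix (Fin n) (Fin n) F :=
    μ • vecMulVec u (S *ᵥ u₁) + vecMulVec u₁ (S *ᵥ u) + π * B₁ * π with hB
  have hBv : ∀ x, B *ᵥ x = (μ * bl S u₁ x) • u + bl S u x • u₁ + P (B₁ *ᵥ P x) := by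
    intro x
    simp only [hB, Matrix.add_mulVec, Matrix.smul_mulVec, zb2_vmv S hS, ← Matrix.mulVec_mulVec,
      hπv, smul_smul]
  have hBv' : ∀ x, B *ᵥ x
      = (μ * bl S u₁ x - bl S u₁ (B₁ *ᵥ P x)) • u + bl S u x • u₁ + B₁ *ᵥ P x := by
    intro x
    rw [hBv, hPperp _ (hk1 _ (hPu x))]
    ext i
    simp only [Pi.add_apply, Pi.sub_apply, Pi.smul_apply, smul_eq_mul]
    ring
  have hcomb : ∀ (c₁ c₂ d₁ d₂ : F) (z z' : Fin n → F), bl S u z = 0 → bl S u z' = 0 →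
      bl S (c₁ • u + c₂ • u₁ + z) (d₁ • u + d₂ • u₁ + z')
        = c₁ * d₂ + c₂ * d₁ + c₂ * bl S u₁ z' + d₂ * bl S u₁ z + bl S z z' := by
    intro c₁ c₂ d₁ d₂ z z' hz hz'
    have hz2 : bl S z u = 0 := by
      rw [zb2_bl_symm S hS]
      exact hz
    have hz3 : bl S z u₁ = bl S u₁ z := zb2_bl_symm S hS _ _
    simp only [zb2_bl_add_left, zb2_bl_add_right, zb2_bl_smul_left, zb2_bl_smul_right, huu, hu₁,
      huu₁, hu₁u, hz, hz', hz2, hz3]
    ring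
  have hform : ∀ x y, bl S (B *ᵥ x) (B *ᵥ y) = μ * bl S x y := by
    intro x y
    rw [hBv' x, hBv' y, hcomb _ _ _ _ _ _ (hk1 _ (hPu x)) (hk1 _ (hPu y)),
      hk2 _ _ (hPu x) (hPu y)]
    have hPP : bl S (P x) (P y)
        = bl S x y - bl S u₁ y * bl S u x - bl S u y * bl S u₁ x := by
      have e1 : bl S x u = bl S u x := zb2_bl_symm S hS _ _
      have e2 : bl S x u₁ = bl S u₁ x := zb2_bl_symm S hS _ _
      simp only [hP, zb2_bl_sub_left, zb2_bl_sub_right, zb2_bl_smul_left, zb2_bl_smul_right,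
        huu, hu₁, huu₁, hu₁u, e1, e2]
      ring
    rw [hPP]
    ring
  have hBS : Bᵀ * S * B = μ • S := by
    apply zb2_ext
    intro x y
    have e : x ⬝ᵥ (Bᵀ * S * B) *ᵥ y = bl S (B *ᵥ x) (B *ᵥ y) := by
      unfold bl
      conv_lhs => rw [← Matrix.mulVec_mulVec, ← Matrix.mulVec_mulVec, dotProduct_mulVec,
        vecMul_transpose]
    rw [e, hform, Matrix.smul_mulVec, dotProduct_smul, smul_eq_mul]
    rfl
  have hBu : B *ᵥ u = μ • u := by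
    have hPu0 : P u = 0 := by
      simp only [hP, huu, hu₁u, one_smul, zero_smul, sub_self, sub_zero]
    rw [hBv' u, hPu0, Matrix.mulVec_zero, huu, hu₁u]
    simp [bl]
  obtain ⟨c₀, hc₀⟩ : ∃ c₀ : F, B₁ *ᵥ u = c₀ • u := by
    have hAinv : A * A⁻¹ = 1 := Matrix.mul_nonsing_inv A (isUnit_iff_ne_zero.mpr hA)
    have hAa : A *ᵥ (A⁻¹ *ᵥ Pi.single 0 1) = Pi.single 0 1 := by
      rw [Matrix.mulVec_mulVec, hAinv, Matrix.one_mulVec]
    obtain ⟨d, hd⟩ := hk3 (A⁻¹ *ᵥ Pi.single 0 1) u huu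
    rw [hk0, hAa] at hd
    refine ⟨μ - d 0, ?_⟩
    ext j
    have := congrFun hd (0, j)
    simp only [pt, Pi.add_apply, Pi.smul_apply, smul_eq_mul, Pi.single_eq_same, mul_one,
      one_mul] at this
    simp only [Pi.smul_apply, smul_eq_mul]
    linear_combination (-1 : F) * this
  have hB₁ : ∀ y, bl S u y = 0 → ∃ c : F, B₁ *ᵥ y = B *ᵥ y + c • u := by
    intro y hy
    refine ⟨bl S u₁ (B₁ *ᵥ P y) - μ * bl S u₁ y + bl S u₁ y * c₀, ?_⟩
    have e : B₁ *ᵥ P y = B₁ *ᵥ y - (bl S u₁ y * c₀) • u := by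
      rw [hPperp y hy, Matrix.mulVec_sub, Matrix.mulVec_smul, hc₀, smul_smul]
    have e' := congrFun e
    rw [hBv' y, hy]
    ext i
    simp only [Pi.add_apply, Pi.smul_apply, smul_eq_mul, zero_mul, add_zero]
    rw [e' i]
    simp only [Pi.sub_apply, Pi.smul_apply, smul_eq_mul]
    ring
  have hBdet : B.det ≠ 0 := by
    intro h0
    have h3 : μ ^ Fintype.card (Fin n) * S.det ≠ 0 := mul_ne_zero (pow_ne_zero _ hμ) hdet
    have := congrArg Matrix.det hBS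
    rw [Matrix.det_mul, Matrix.det_mul, Matrix.det_transpose, h0, Matrix.det_smul] at this
    apply h3
    rw [← this]
    simp
  have hBi : B⁻¹ * B = 1 := Matrix.nonsing_inv_mul B (isUnit_iff_ne_zero.mpr hBdet)
  have hBi' : B * B⁻¹ = 1 := Matrix.mul_nonsing_inv B (isUnit_iff_ne_zero.mpr hBdet)
  have hAi : A⁻¹ * A = 1 := Matrix.nonsing_inv_mul A (isUnit_iff_ne_zero.mpr hA)
  have hAi' : A * A⁻¹ = 1 := Matrix.mul_nonsing_inv A (isUnit_iff_ne_zero.mpr hA)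
  have hBiu : B⁻¹ *ᵥ u = μ⁻¹ • u := by
    have h : B⁻¹ *ᵥ (B *ᵥ u) = u := by
      rw [Matrix.mulVec_mulVec, hBi, Matrix.one_mulVec]
    rw [hBu, Matrix.mulVec_smul] at h
    conv_rhs => rw [← h]
    rw [smul_smul, inv_mul_cancel₀ hμ, one_smul]
  refine ⟨B, (A⁻¹ ⊗ₖ B⁻¹) * k, hBS, ?_, ?_, ?_⟩
  · rw [← mul_assoc, ← Matrix.mul_kronecker_mul, hAi', hBi', Matrix.one_kronecker_one, one_mul]
  · intro a
    rw [← Matrix.mulVec_mulVec, hk0, kron_mulVec_pt, hBiu, Matrix.mulVec_smul,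
      Matrix.mulVec_mulVec, hAi, Matrix.one_mulVec]
    ext ⟨i, j⟩
    simp only [pt, Pi.smul_apply, smul_eq_mul]
    field_simp
  · intro a y hy
    obtain ⟨d, hd⟩ := hk3 a y hy
    obtain ⟨c, hc⟩ := hB₁ y hy
    refine ⟨(c * μ⁻¹) • a + μ⁻¹ • (A⁻¹ *ᵥ d), ?_⟩
    rw [← Matrix.mulVec_mulVec, hd, Matrix.mulVec_add, kron_mulVec_pt, kron_mulVec_pt, hBiu,
      Matrix.mulVec_mulVec, hAi, Matrix.one_mulVec, hc, Matrix.mulVec_add, Matrix.mulVec_mulVec,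
      hBi, Matrix.one_mulVec, Matrix.mulVec_smul, hBiu]
    ext ⟨i, j⟩
    simp only [pt, Pi.add_apply, Pi.smul_apply, smul_eq_mul]
    ring

end Cfsg.Agent.Helper17.SOZB2
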