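/-
helper17: the tables for `twGroup_core` (`TwCore`) for `³D₄` and `²E₆`: a word for the longest element in the
orbit reflections, a neighbour of each node of the diagram, and the derivation of the positive roots as sums.
-/
import Cfsg.Agent.Helper17.TwCore
import Cfsg.Agent.Helper17.TwD4
import Cfsg.Agent.Helper17.TwE6

set_option autoImplicit false
set_option maxRecDepth 1000000

namespace Cfsg.Agent.Helper17

open Cfsg Cfsg.Lie Cfsg.Agent.Helper36 Cfsg.Agent.Helper18

/-- The longest element of the twisted Weyl group of `³D₄` (type `G₂`), in the orbit reflections. -/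
def longLsD4 : List ℕ := [0, 1, 0, 1, 0, 1]

/-- A neighbour of each node of the diagram `D₄`. -/
def nbD4 : List ℕ := [1, 0, 1, 1]

/-- The positive roots of `D₄` as sums. -/
def stepsD4 : List (ℕ × ℕ × ℕ) :=
  [(14, 12, 15), (14, 13, 16), (18, 14, 19), (13, 15, 17), (18, 15, 20), (18, 16, 21), (18, 17, 22), (14, 22, 23)]

theorem longOK_D4 : longOK chevD4 (flatO orbsD4 longLsD4) = true := by decide +kernel

theorem coreSimp_D4 : ∀ i, i < chevD4.rank → htW chevD4 coordWD4 (chevD4.simple i) = 1 ∧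
    nbD4.getD i 0 < chevD4.rank ∧ chevD4.cartan (nbD4.getD i 0) (chevD4.simple i) = -1 ∧
    ∃ o ∈ orbsD4, i ∈ o := by decide +kernel

theorem coreInj_D4 : ∀ i, i < chevD4.rank → ∀ j, j < chevD4.rank →
    chevD4.simple i = chevD4.simple j → i = j := by decide +kernel

theorem charDeriv_D4 : charDeriv chevD4 stepsD4 ((List.range chevD4.rank).map chevD4.simple) = true := by
  decide +kernel

/-- The longest element of the twisted Weyl group of `²E₆` (type `F₄`), in the orbit reflections. -/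
def longLsE6 : List ℕ := [0, 1, 0, 2, 3, 1, 0, 2, 3, 1, 0, 2, 3, 1, 0, 2, 3, 1, 0, 2, 3, 1, 2, 3]

/-- A neighbour of each node of the diagram `E₆`. -/
def nbE6 : List ℕ := [2, 3, 0, 1, 3, 4]

/-- The positive roots of `E₆` as sums. -/
def stepsE6 : List (ℕ × ℕ × ℕ) :=
  [(37, 36, 38), (39, 37, 40), (42, 39, 43), (46, 39, 47), (56, 42, 57), (39, 38, 41), (42, 40, 44), (46, 40, 48),
   (46, 43, 50), (56, 43, 58), (42, 41, 45), (46, 41, 49), (46, 44, 51), (56, 44, 59), (56, 50, 61), (46, 45, 52),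
   (39, 51, 53), (56, 45, 60), (56, 51, 62), (39, 52, 54), (56, 52, 63), (56, 53, 64), (37, 54, 55), (56, 54, 65),
   (42, 64, 67), (56, 55, 66), (42, 65, 68), (42, 66, 69), (39, 69, 70), (46, 70, 71)]

theorem longOK_E6 : longOK chevE6 (flatO orbsE6 longLsE6) = true := by decide +kernel

theorem coreSimp_E6 : ∀ i, i < chevE6.rank → htW chevE6 coordWE6 (chevE6.simple i) = 1 ∧
    nbE6.getD i 0 < chevE6.rank ∧ chevE6.cartan (nbE6.getD i 0) (chevE6.simple i) = -1 ∧
    ∃ o ∈ orbsE6, i ∈ o := by decide +kernel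

theorem coreInj_E6 : ∀ i, i < chevE6.rank → ∀ j, j < chevE6.rank →
    chevE6.simple i = chevE6.simple j → i = j := by decide +kernel

theorem charDeriv_E6 : charDeriv chevE6 stepsE6 ((List.range chevE6.rank).map chevE6.simple) = true := by
  decide +kernel

section

variable {K : Type*} [Field K]

/-- The core of `B ⊓ ³D₄(q)`: an element all of whose conjugates by `³D₄(q)` lie in `B` is `1`. -/
theorem twistedD4_core (φ : K →+* K) (g : GL chevD4.Idx K)
    (hg : ∀ b ∈ twGroup (bRel_of_mem (F := K) hD_D4).xadd φ eD4 orbsD4,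
      b * g * b⁻¹ ∈ chevD4.borelSubgroup K) : g = 1 :=
  twGroup_core hD_D4 φ eD4 orbsD4 coordWD4 (rootCoords_of_OK chainPackOK_D4 coordOK_D4) orbOK_D4 longLsD4
    longOK_D4 nbD4 coreSimp_D4 coreInj_D4 stepsD4 charDeriv_D4 g hg

/-- The core of `B ⊓ ²E₆(q)`: an element all of whose conjugates by `²E₆(q)` lie in `B` is `1`. -/
theorem twistedE6_core (φ : K →+* K) (g : GL chevE6.Idx K)
    (hg : ∀ b ∈ twGroup (bRel_of_mem (F := K) hD_E6).xadd φ eE6 orbsE6,
      b * g * b⁻¹ ∈ chevE6.borelSubgroup K) : g = 1 :=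
  twGroup_core hD_E6 φ eE6 orbsE6 coordWE6 (rootCoords_of_OK chainPackOK_E6 coordOK_E6) orbOK_E6 longLsE6
    longOK_E6 nbE6 coreSimp_E6 coreInj_E6 stepsE6 charDeriv_E6 g hg

end

end Cfsg.Agent.Helper17
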