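/-
helper17: the tables for the two generators of the untwisted Chevalley groups: for each type the word of the
Coxeter element, the roots of Steinberg's pair, and the certificates that the root subgroups of the seeds and
`n_w` generate the group.  All checked by the kernel.
-/
import Cfsg.Agent.Helper17.TwoGenU

set_option autoImplicit false

namespace Cfsg.Agent.Helper17

open Cfsg Cfsg.Lie Cfsg.Agent.Helper36

/-! ### `G2` -/

/-- The word of the Coxeter element of `G2`. -/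
def g2UL : List ℕ := [0, 1]

theorem g2UL_valid : ValidW chevG2 g2UL := by unfold ValidW; decide

/-- The steps of the certificate of `G2` from the seeds `[11, 9]`. -/
def g2UMain : List GStep :=
  [.w 11, .w 6, .w 1, .w 0, .w 5, .w 9, .w 8, .w 4, .w 2, .w 3]

theorem g2UMain_ok : gCertOK chevG2 g2UL g2UMain [11, 9] = true := by decide +kernel

theorem g2U_tab : (1 < chevG2.rank ∧ 11 < chevG2.nroots ∧ 9 < chevG2.nroots ∧ 10 < chevG2.nroots ∧
    7 < chevG2.nroots) ∧ (wW chevG2 g2UL 10 = 11 ∧ wW chevG2 g2UL 7 = 9) ∧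
    (chevG2.cartan 1 11 = 1 ∧ chevG2.cartan 1 10 = -1 ∧ chevG2.cartan 1 9 = 0 ∧
      chevG2.cartan 1 7 = -1) := by
  decide +kernel

/-! ### `B2` -/

/-- The word of the Coxeter element of `B2`. -/
def b2UL : List ℕ := [0, 1]

theorem b2UL_valid : ValidW chevB2 b2UL := by unfold ValidW; decide

/-- The steps of the certificate of `B2` from the seeds `[2, 0]`. -/
def b2UMain : List GStep :=
  [.w 2, .w 1, .w 5, .w 0, .w 3, .w 7]

theorem b2UMain_ok : gCertOK chevB2 b2UL b2UMain [2, 0] = true := by decide +kernel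

theorem b2U_tab : (1 < chevB2.rank ∧ 2 < chevB2.nroots ∧ 0 < chevB2.nroots ∧ 6 < chevB2.nroots ∧
    4 < chevB2.nroots) ∧ (wW chevB2 b2UL 6 = 2 ∧ wW chevB2 b2UL 4 = 0) ∧
    (chevB2.cartan 1 2 = 1 ∧ chevB2.cartan 1 6 = 1 ∧ chevB2.cartan 1 0 = 0 ∧
      chevB2.cartan 1 4 = 2) := by
  decide +kernel

/-! ### `D4` -/

/-- The word of the Coxeter element of `D4`. -/
def d4UL : List ℕ := [0, 1, 2, 3]

theorem d4UL_valid : ValidW chevD4 d4UL := by unfold ValidW; decide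

/-- The steps of the certificate of `D4` from the seeds `[1, 13]`. -/
def d4UMain : List GStep :=
  [.w 1, .w 18, .w 14, .w 22, .w 5, .w 13, .w 2, .w 8, .w 10, .w 21, .c 0 1 9 (1), .w 0, .w 6, .w 19, .w 23,
    .w 17, .c 3 1 13 (1), .w 3, .w 7, .w 11, .w 20, .w 16]

theorem d4UMain_ok : gCertOK chevD4 d4UL d4UMain [1, 13] = true := by decide +kernel

theorem d4U_tab : (0 < chevD4.rank ∧ 1 < chevD4.nroots ∧ 13 < chevD4.nroots ∧ 9 < chevD4.nroots ∧
    15 < chevD4.nroots) ∧ (wW chevD4 d4UL 9 = 1 ∧ wW chevD4 d4UL 15 = 13) ∧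
    (chevD4.cartan 0 1 = -1 ∧ chevD4.cartan 0 9 = 1 ∧ chevD4.cartan 0 13 = 0 ∧
      chevD4.cartan 0 15 = -1) := by
  decide +kernel

/-! ### `F4` -/

/-- The word of the Coxeter element of `F4`. -/
def f4UL : List ℕ := [0, 1, 2, 3]

theorem f4UL_valid : ValidW chevF4 f4UL := by unfold ValidW; decide

/-- The steps of the certificate of `F4` from the seeds `[47, 33]`. -/
def f4UMain : List GStep :=
  [.w 47, .w 32, .w 26, .w 6, .w 2, .w 1, .w 0, .w 15, .w 21, .w 41, .w 45, .w 33, .w 27, .w 35, .w 38,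
    .w 28, .w 36, .w 14, .w 20, .w 12, .w 9, .w 19, .c 5 0 32 (1), .w 5, .w 17, .w 4, .w 16, .w 22, .w 23,
    .w 42, .w 30, .w 43, .w 31, .w 25, .c 3 9 12 (-1), .w 3, .w 7, .w 8, .w 18, .w 34, .w 37, .w 44, .w 40,
    .w 39, .w 29, .w 13]

theorem f4UMain_ok : gCertOK chevF4 f4UL f4UMain [47, 33] = true := by decide +kernel

theorem f4U_tab : (3 < chevF4.rank ∧ 47 < chevF4.nroots ∧ 33 < chevF4.nroots ∧ 46 < chevF4.nroots ∧
    11 < chevF4.nroots) ∧ (wW chevF4 f4UL 46 = 47 ∧ wW chevF4 f4UL 11 = 33) ∧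
    (chevF4.cartan 3 47 = 1 ∧ chevF4.cartan 3 46 = -1 ∧ chevF4.cartan 3 33 = 0 ∧
      chevF4.cartan 3 11 = -1) := by
  decide +kernel

/-! ### `E6` -/

/-- The word of the Coxeter element of `E6`. -/
def e6UL : List ℕ := [0, 1, 2, 3, 4, 5]

theorem e6UL_valid : ValidW chevE6 e6UL := by unfold ValidW; decide

/-- The steps of the certificate of `E6` from the seeds `[5]`. -/
def e6UMain : List GStep :=
  [.w 5, .w 26, .w 57, .w 50, .w 64, .w 69, .w 54, .w 40, .w 38, .w 9, .w 3, .c 11 3 50 (1), .w 11, .w 56,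
    .w 42, .w 47, .w 59, .w 52, .w 39, .w 37, .w 36, .w 8, .w 28, .c 0 3 23 (1), .w 0, .w 1, .w 16, .w 30,
    .w 61, .w 67, .w 71, .w 70, .w 55, .w 41, .w 10, .c 2 0 47 (-1), .w 2, .w 17, .w 31, .w 33, .w 62, .w 68,
    .w 53, .w 66, .w 45, .w 14, .w 21, .c 19 0 64 (-1), .w 19, .w 32, .w 34, .w 35, .w 63, .w 43, .w 48,
    .w 60, .w 15, .w 29, .w 24, .c 22 0 67 (1), .w 22, .w 46, .w 58, .w 51, .w 65, .w 44, .w 49, .w 25,
    .w 13, .w 20, .w 6]

theorem e6UMain_ok : gCertOK chevE6 e6UL e6UMain [5] = true := by decide +kernel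

theorem e6U_tab : (0 < chevE6.rank ∧ 5 < chevE6.nroots ∧ 3 < chevE6.nroots ∧ 18 < chevE6.nroots ∧
    9 < chevE6.nroots) ∧ (wW chevE6 e6UL 18 = 5 ∧ wW chevE6 e6UL 9 = 3) ∧
    (chevE6.cartan 0 5 = -1 ∧ chevE6.cartan 0 18 = 1 ∧ chevE6.cartan 0 3 = 0 ∧
      chevE6.cartan 0 9 = -1) := by
  decide +kernel

/-! ### `E7` -/

/-- The word of the Coxeter element of `E7`. -/
def e7UL : List ℕ := [0, 1, 2, 3, 4, 5, 6]

theorem e7UL_valid : ValidW chevE7 e7UL := by unfold ValidW; decide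

/-- The steps of the certificate of `E7` from the seeds `[18]`. -/
def e7UMain : List GStep :=
  [.w 18, .w 49, .w 43, .w 78, .w 95, .w 84, .w 104, .w 113, .w 88, .w 107, .w 76, .w 82, .w 47, .w 30,
    .w 41, .w 21, .w 12, .c 0 12 21 (1), .w 0, .w 1, .w 2, .w 7, .w 33, .w 53, .w 99, .w 109, .w 119, .w 125,
    .w 124, .w 123, .w 118, .w 92, .w 72, .w 26, .w 16, .c 3 0 95 (1), .w 3, .w 8, .w 34, .w 54, .w 57,
    .w 100, .w 110, .w 120, .w 115, .w 122, .w 117, .w 91, .w 71, .w 68, .w 25, .w 15, .w 5, .c 17 0 109 (1),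
    .w 17, .w 48, .w 94, .w 83, .w 103, .w 112, .w 121, .w 116, .w 90, .w 108, .w 77, .w 31, .w 42, .w 22,
    .w 13, .w 4, .w 9, .c 11 0 103 (-1), .w 11, .w 36, .w 55, .w 58, .w 60, .w 101, .w 111, .w 87, .w 106,
    .w 114, .w 89, .w 70, .w 67, .w 65, .w 24, .w 14, .w 38, .c 20 0 112 (1), .w 20, .w 50, .w 44, .w 27,
    .w 93, .w 73, .w 79, .w 96, .w 85, .w 105, .w 75, .w 81, .w 98, .w 32, .w 52, .w 46, .w 29,
    .c 23 0 115 (-1), .w 23, .w 51, .w 45, .w 28, .w 39, .w 56, .w 59, .w 61, .w 62, .w 102, .w 74, .w 80,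
    .w 97, .w 86, .w 69, .w 66, .w 64]

theorem e7UMain_ok : gCertOK chevE7 e7UL e7UMain [18] = true := by decide +kernel

theorem e7U_tab : (0 < chevE7.rank ∧ 18 < chevE7.nroots ∧ 11 < chevE7.nroots ∧ 37 < chevE7.nroots ∧
    19 < chevE7.nroots) ∧ (wW chevE7 e7UL 37 = 18 ∧ wW chevE7 e7UL 19 = 11) ∧
    (chevE7.cartan 0 18 = -1 ∧ chevE7.cartan 0 37 = 1 ∧ chevE7.cartan 0 11 = 0 ∧
      chevE7.cartan 0 19 = -1) := by
  decide +kernel

/-! ### `E8` -/

/-- The word of the Coxeter element of `E8`. -/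
def e8UL : List ℕ := [0, 1, 2, 3, 4, 5, 6, 7]

theorem e8UL_valid : ValidW chevE8 e8UL := by unfold ValidW; decide

/-- The steps of the certificate of `E8` from the seeds `[6]`. -/
def e8UMain : List GStep :=
  [.w 6, .w 7, .w 14, .w 8, .w 16, .w 22, .w 37, .w 79, .w 106, .w 110, .w 170, .w 185, .w 205, .w 227,
    .w 219, .w 233, .w 232, .w 225, .w 231, .w 223, .w 217, .w 202, .w 160, .w 133, .w 129, .w 69, .w 54,
    .w 34, .w 12, .c 57 6 205 (-1), .w 57, .w 100, .w 93, .w 141, .w 164, .w 148, .w 175, .w 189, .w 208,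
    .w 195, .w 211, .w 197, .w 212, .w 198, .w 157, .w 182, .w 139, .w 146, .w 98, .w 75, .w 91, .w 64,
    .w 50, .w 31, .w 44, .w 28, .w 42, .w 27, .w 41, .c 1 6 100 (1), .w 1, .w 0, .w 15, .w 21, .w 36, .w 78,
    .w 105, .w 169, .w 184, .w 204, .w 226, .w 234, .w 235, .w 236, .w 237, .w 238, .w 239, .w 224, .w 218,
    .w 203, .w 161, .w 134, .w 70, .w 55, .w 35, .w 13, .w 5, .w 4, .w 3, .c 11 0 160 (1), .w 11, .w 19,
    .w 25, .w 9, .w 17, .w 23, .w 38, .w 80, .w 56, .w 99, .w 163, .w 147, .w 174, .w 188, .w 207, .w 228,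
    .w 220, .w 214, .w 230, .w 222, .w 216, .w 201, .w 159, .w 183, .w 140, .w 76, .w 92, .w 65, .w 51,
    .c 18 0 182 (1), .w 18, .w 24, .w 39, .w 26, .w 40, .w 81, .w 107, .w 111, .w 114, .w 171, .w 186,
    .w 206, .w 194, .w 210, .w 229, .w 221, .w 215, .w 200, .w 213, .w 199, .w 158, .w 132, .w 128, .w 125,
    .w 68, .w 53, .w 33, .w 45, .w 29, .c 30 0 201 (-1), .w 30, .w 43, .w 83, .w 58, .w 46, .w 84, .w 108,
    .w 112, .w 115, .w 117, .w 172, .w 187, .w 152, .w 178, .w 191, .w 209, .w 196, .w 156, .w 181, .w 193,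
    .w 155, .w 131, .w 127, .w 124, .w 122, .w 67, .w 52, .w 87, .w 61, .c 47 0 216 (1), .w 47, .w 85, .w 59,
    .w 101, .w 94, .w 71, .w 162, .w 135, .w 142, .w 165, .w 149, .w 176, .w 190, .w 153, .w 179, .w 192,
    .w 154, .w 180, .w 138, .w 145, .w 168, .w 77, .w 104, .w 97, .w 74, .w 90, .w 63, .w 49, .w 86,
    .c 62 0 223 (-1), .w 62, .w 102, .w 95, .w 72, .w 88, .w 109, .w 113, .w 116, .w 118, .w 119, .w 173,
    .w 136, .w 143, .w 166, .w 150, .w 177, .w 137, .w 144, .w 167, .w 151, .w 130, .w 126, .w 123, .w 121,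
    .w 120, .w 66, .w 103, .w 96, .w 73]

theorem e8UMain_ok : gCertOK chevE8 e8UL e8UMain [6] = true := by decide +kernel

theorem e8U_tab : (0 < chevE8.rank ∧ 6 < chevE8.nroots ∧ 7 < chevE8.nroots ∧ 20 < chevE8.nroots ∧
    6 < chevE8.nroots) ∧ (wW chevE8 e8UL 20 = 6 ∧ wW chevE8 e8UL 6 = 7) ∧
    (chevE8.cartan 0 6 = -1 ∧ chevE8.cartan 0 20 = 1 ∧ chevE8.cartan 0 7 = 0 ∧
      chevE8.cartan 0 6 = -1) := by
  decide +kernel

/-! ### The field with two elements: `F₄` and `D₄` -/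

/-- The steps from the seed `24` of `F₄`. -/
def f4USt1 : List GStep :=
  [.w 24, .w 5, .w 17, .w 4, .w 16, .w 22, .w 23, .w 42, .w 30, .w 43, .w 31, .c 0 4 16 (-1), .w 0, .w 15,
    .w 21, .w 41, .w 45, .w 46, .w 47, .w 32, .w 26, .w 6, .w 2]

theorem f4U_split_tab : ((wW chevF4 f4UL)^[5] 47 = 1 ∧ (wW chevF4 f4UL)^[5] 33 = 36 ∧ 24 < chevF4.nroots) ∧
    (cleanAt chevF4 24 47 1 1 = true ∧ commEmpty chevF4 36 47 = true ∧ commEmpty chevF4 36 33 = true ∧
      commEmpty chevF4 24 33 = true ∧ commEmpty chevF4 1 33 = true ∧ commEmpty chevF4 24 36 = true) ∧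
    gReachOK chevF4 f4UL f4USt1 [24] 47 = true := by
  decide +kernel

/-- The steps from the seed `3` of `D₄`. -/
def d4USt1 : List GStep :=
  [.w 3, .w 7, .w 11, .w 20, .w 16, .c 0 3 7 (-1), .w 0, .w 6, .w 19, .w 23, .w 17]

/-- The steps from the seeds `3`, `2` of `D₄`. -/
def d4USt2 : List GStep :=
  [.w 3, .w 7, .w 11, .w 20, .w 16, .w 2, .w 8, .w 10, .w 21, .w 15, .c 0 2 8 (-1), .w 0, .w 6, .w 19, .w 23,
    .w 17, .c 1 2 11 (1), .w 1, .w 18, .w 14, .w 22, .w 5]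

theorem d4U_split_tab : (3 < chevD4.nroots ∧ 2 < chevD4.nroots ∧ 12 < chevD4.nroots) ∧
    (cleanAt chevD4 3 1 13 1 = true ∧ commEmpty chevD4 3 13 = true ∧ cleanAt chevD4 2 1 12 1 = true ∧
      commEmpty chevD4 12 13 = true ∧ commEmpty chevD4 12 2 = true ∧ commEmpty chevD4 1 2 = true) ∧
    gReachOK chevD4 d4UL d4USt1 [3] 12 = true ∧ gReachOK chevD4 d4UL d4USt2 [3, 2] 1 = true := by
  decide +kernel

end Cfsg.Agent.Helper17
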